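import Cfsg.Agent.Lib.Helper11.SC3B.Defs

/-!
# S1904 farm, PART PC1b sub-farm (co-architect helper11) — leaf B01

Paper proof: Blueprint (1.4) in `Cfsg/Agent/Lib/Helper12/SC3/Blueprint.lean`.  Context `Ctx A` (`Defs.lean` of this folder):
`X` finite 2-group with the rank bound (`Hyp A`), `x² ∈ Z`, `[x,y] ∈ Z` for all `x y` (from PC1), `X` nonabelian, `Z = center X` noncyclic.
`R = Om1Z X = Ω₁(Z)`.  `FixR A` : every `φ ∈ A` fixes `R` pointwise.  `NoFixR A` : no `r ≠ 1` of `R` is fixed by all of `A`.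
All EARLIER files of this folder (linear import chain Defs, B01, B01b, B02, B03, B04, B05, B06, B07, B08, B09a, G09, B10, B11a, B11b, G11,
B12, B13a, B13b, G13, B14a, B14b, B14c, Main) are black boxes you may use.  Only replace the `sorry`s; names / statements / namespace verbatim;
aux lemmas: fresh names in a sub-namespace `B01`; extra imports of landed Lib files are fine.

RECIPE.  `c := x*y*x⁻¹*y⁻¹` is central (`c.cm`), so `x*y*x⁻¹ = c*y`, `x²*y*x⁻² = c²*y`; `x²` central (`c.sq`) gives `c² = 1`.  `commutator X = closure of commutators` (`commutator_eq_closure`, `commutatorElement_def`), `Subgroup.closure_le`.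
-/

set_option autoImplicit false

open Cfsg.Agent.Lib.Helper12.SC3
open scoped commutatorElement

namespace Cfsg.Agent.Lib.Helper11.SC3B

variable {X : Type*} [Group X] {A : Subgroup (MulAut X)}

namespace B01

theorem conj_eq {x y c : X} (hc : c = x * y * x⁻¹ * y⁻¹) : x * y * x⁻¹ = c * y := by
  rw [hc]; group

end B01

/-- commutators have square one -/
theorem Ctx.comm_sq (c : Ctx A) (x y : X) : (x * y * x⁻¹ * y⁻¹) ^ 2 = 1 := by
  set k := x * y * x⁻¹ * y⁻¹ with hk
  have hkZ : k ∈ Subgroup.center X := c.cm x y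
  have hx2 : x ^ 2 ∈ Subgroup.center X := c.sq x
  have h1 : x * y * x⁻¹ = k * y := B01.conj_eq hk
  -- x² y x⁻² = k² y
  have h2 : x ^ 2 * y * (x ^ 2)⁻¹ = k ^ 2 * y := by
    have : x ^ 2 * y * (x ^ 2)⁻¹ = x * (x * y * x⁻¹) * x⁻¹ := by rw [pow_two]; group
    rw [this, h1]
    have hkx : k * x = x * k := (Subgroup.mem_center_iff.1 hkZ x).symm
    calc x * (k * y) * x⁻¹ = (x * k) * y * x⁻¹ := by group
      _ = (k * x) * y * x⁻¹ := by rw [hkx]
      _ = k * (x * y * x⁻¹) := by group
      _ = k * (k * y) := by rw [h1]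
      _ = k ^ 2 * y := by rw [pow_two]; exact (mul_assoc k k y).symm
  have h3 : x ^ 2 * y * (x ^ 2)⁻¹ = y := by
    have := Subgroup.mem_center_iff.1 hx2 y
    rw [← this]; group
  rw [h3] at h2
  have : k ^ 2 * y = 1 * y := by rw [one_mul]; exact h2.symm
  exact mul_right_cancel this

theorem Ctx.comm_mem_R (c : Ctx A) (x y : X) : x * y * x⁻¹ * y⁻¹ ∈ Om1Z X :=
  ⟨c.cm x y, c.comm_sq x y⟩

theorem Ctx.commutator_le_R (c : Ctx A) : commutator X ≤ Om1Z X := by
  rw [commutator_eq_closure, Subgroup.closure_le]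
  rintro g ⟨a, b, rfl⟩
  rw [commutatorElement_def]
  exact c.comm_mem_R a b

end Cfsg.Agent.Lib.Helper11.SC3B
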