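import Cfsg.Agent.Lib.Helper11.SC3B.B01

/-!
# S1904 farm, PART PC1b sub-farm (co-architect helper11) — leaf B01b

Paper proof: Blueprint (1.4) in `Cfsg/Agent/Lib/Helper12/SC3/Blueprint.lean`.  Context `Ctx A` (`Defs.lean` of this folder):
`X` finite 2-group with the rank bound (`Hyp A`), `x² ∈ Z`, `[x,y] ∈ Z` for all `x y` (from PC1), `X` nonabelian, `Z = center X` noncyclic.
`R = Om1Z X = Ω₁(Z)`.  `FixR A` : every `φ ∈ A` fixes `R` pointwise.  `NoFixR A` : no `r ≠ 1` of `R` is fixed by all of `A`.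
All EARLIER files of this folder (linear import chain Defs, B01, B01b, B02, B03, B04, B05, B06, B07, B08, B09a, G09, B10, B11a, B11b, G11,
B12, B13a, B13b, G13, B14a, B14b, B14c, Main) are black boxes you may use.  Only replace the `sorry`s; names / statements / namespace verbatim;
aux lemmas: fresh names in a sub-namespace `B01b`; extra imports of landed Lib files are fine.

RECIPE.  Class two: commutators are central, so `[xy,t] = x[y,t]x⁻¹·[x,t] = [y,t][x,t]` etc.  Pure algebra with `Subgroup.mem_center_iff` for the central factors.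
-/

set_option autoImplicit false

open Cfsg.Agent.Lib.Helper12.SC3

namespace Cfsg.Agent.Lib.Helper11.SC3B

variable {X : Type*} [Group X] {A : Subgroup (MulAut X)}

/-- the commutator map is bimultiplicative -/
theorem Ctx.comm_mul_left (c : Ctx A) (x y t : X) :
    (x * y) * t * (x * y)⁻¹ * t⁻¹ = (x * t * x⁻¹ * t⁻¹) * (y * t * y⁻¹ * t⁻¹) := by
  obtain ⟨d, hd⟩ : ∃ d : X, d = y * t * y⁻¹ * t⁻¹ := ⟨_, rfl⟩
  have hdc : ∀ g : X, g * d = d * g := by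
    rw [hd]
    exact fun g => Subgroup.mem_center_iff.mp (c.cm y t) g
  calc (x * y) * t * (x * y)⁻¹ * t⁻¹ = x * (y * t * y⁻¹ * t⁻¹) * (t * x⁻¹ * t⁻¹) := by group
    _ = x * d * (t * x⁻¹ * t⁻¹) := by rw [hd]
    _ = d * x * (t * x⁻¹ * t⁻¹) := by rw [hdc x]
    _ = d * (x * t * x⁻¹ * t⁻¹) := by group
    _ = (x * t * x⁻¹ * t⁻¹) * d := (hdc _).symm
    _ = (x * t * x⁻¹ * t⁻¹) * (y * t * y⁻¹ * t⁻¹) := by rw [hd]

theorem Ctx.comm_mul_right (c : Ctx A) (x y t : X) :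
    x * (y * t) * x⁻¹ * (y * t)⁻¹ = (x * y * x⁻¹ * y⁻¹) * (x * t * x⁻¹ * t⁻¹) := by
  obtain ⟨e, he⟩ : ∃ e : X, e = x * t * x⁻¹ * t⁻¹ := ⟨_, rfl⟩
  have hec : ∀ g : X, g * e = e * g := by
    rw [he]
    exact fun g => Subgroup.mem_center_iff.mp (c.cm x t) g
  calc x * (y * t) * x⁻¹ * (y * t)⁻¹ = x * y * x⁻¹ * (x * t * x⁻¹ * t⁻¹) * y⁻¹ := by group
    _ = x * y * x⁻¹ * e * y⁻¹ := by rw [he]
    _ = x * y * x⁻¹ * (e * y⁻¹) := by group
    _ = x * y * x⁻¹ * (y⁻¹ * e) := by rw [hec y⁻¹]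
    _ = (x * y * x⁻¹ * y⁻¹) * e := by group
    _ = (x * y * x⁻¹ * y⁻¹) * (x * t * x⁻¹ * t⁻¹) := by rw [he]

/-- central factors do not change commutators -/
theorem Ctx.comm_mul_central (c : Ctx A) (x y : X) {z : X} (hz : z ∈ Subgroup.center X) :
    (x * z) * y * (x * z)⁻¹ * y⁻¹ = x * y * x⁻¹ * y⁻¹ := by
  have hz' : ∀ g : X, g * z = z * g := fun g => Subgroup.mem_center_iff.mp hz g
  calc (x * z) * y * (x * z)⁻¹ * y⁻¹ = x * (z * y) * z⁻¹ * x⁻¹ * y⁻¹ := by group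
    _ = x * (y * z) * z⁻¹ * x⁻¹ * y⁻¹ := by rw [hz' y]
    _ = x * y * x⁻¹ * y⁻¹ := by group

theorem Ctx.comm_swap (c : Ctx A) (x y : X) : y * x * y⁻¹ * x⁻¹ = x * y * x⁻¹ * y⁻¹ := by
  have h := c.comm_sq x y
  have hinv : (x * y * x⁻¹ * y⁻¹)⁻¹ = x * y * x⁻¹ * y⁻¹ := by
    rw [inv_eq_iff_mul_eq_one, ← pow_two]
    exact h
  calc y * x * y⁻¹ * x⁻¹ = (x * y * x⁻¹ * y⁻¹)⁻¹ := by group
    _ = x * y * x⁻¹ * y⁻¹ := hinv

end Cfsg.Agent.Lib.Helper11.SC3B
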