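import Cfsg.Agent.Lib.Helper11.SC3B.B01b

/-!
# S1904 farm, PART PC1b sub-farm (co-architect helper11) — leaf B02

Paper proof: Blueprint (1.4) in `Cfsg/Agent/Lib/Helper12/SC3/Blueprint.lean`.  Context `Ctx A` (`Defs.lean` of this folder):
`X` finite 2-group with the rank bound (`Hyp A`), `x² ∈ Z`, `[x,y] ∈ Z` for all `x y` (from PC1), `X` nonabelian, `Z = center X` noncyclic.
`R = Om1Z X = Ω₁(Z)`.  `FixR A` : every `φ ∈ A` fixes `R` pointwise.  `NoFixR A` : no `r ≠ 1` of `R` is fixed by all of `A`.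
All EARLIER files of this folder (linear import chain Defs, B01, B01b, B02, B03, B04, B05, B06, B07, B08, B09a, G09, B10, B11a, B11b, G11,
B12, B13a, B13b, G13, B14a, B14b, B14c, Main) are black boxes you may use.  Only replace the `sorry`s; names / statements / namespace verbatim;
aux lemmas: fresh names in a sub-namespace `B02`; extra imports of landed Lib files are fine.

RECIPE.  `(xy)² = x(yx)y`, `yx = [y,x]·x·y` with `[y,x] = y*x*y⁻¹*x⁻¹` central (`c.cm`).  (`comm_swap`: `[y,x] = [x,y]⁻¹ = [x,y]` since squares of commutators are 1.)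
-/

set_option autoImplicit false

open Cfsg.Agent.Lib.Helper12.SC3

namespace Cfsg.Agent.Lib.Helper11.SC3B

variable {X : Type*} [Group X] {A : Subgroup (MulAut X)}

/-- `(xy)² = x² y² [y,x]` -/
theorem Ctx.mul_sq (c : Ctx A) (x y : X) : (x * y) ^ 2 = x ^ 2 * y ^ 2 * (y * x * y⁻¹ * x⁻¹) := by
  have hk : ∀ g : X, g * (y * x * y⁻¹ * x⁻¹) = (y * x * y⁻¹ * x⁻¹) * g :=
    fun g => Subgroup.mem_center_iff.mp (c.cm y x) g
  have hyx : y * x = (y * x * y⁻¹ * x⁻¹) * (x * y) := by group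
  calc (x * y) ^ 2 = x * ((y * x) * y) := by rw [pow_two]; simp only [mul_assoc]
    _ = x * (((y * x * y⁻¹ * x⁻¹) * (x * y)) * y) := by rw [← hyx]
    _ = x * ((y * x * y⁻¹ * x⁻¹) * (x * y * y)) := by simp only [mul_assoc]
    _ = x * ((x * y * y) * (y * x * y⁻¹ * x⁻¹)) := by rw [← hk (x * y * y)]
    _ = x ^ 2 * y ^ 2 * (y * x * y⁻¹ * x⁻¹) := by rw [pow_two, pow_two]; simp only [mul_assoc]

end Cfsg.Agent.Lib.Helper11.SC3B
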