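import Cfsg.Agent.Lib.Helper11.SC3B.B02
import Cfsg.Agent.Lib.Helper20.ST74.E9

/-!
# S1904 farm, PART PC1b sub-farm (co-architect helper11) — leaf B03

Paper proof: Blueprint (1.4) in `Cfsg/Agent/Lib/Helper12/SC3/Blueprint.lean`.  Context `Ctx A` (`Defs.lean` of this folder):
`X` finite 2-group with the rank bound (`Hyp A`), `x² ∈ Z`, `[x,y] ∈ Z` for all `x y` (from PC1), `X` nonabelian, `Z = center X` noncyclic.
`R = Om1Z X = Ω₁(Z)`.  `FixR A` : every `φ ∈ A` fixes `R` pointwise.  `NoFixR A` : no `r ≠ 1` of `R` is fixed by all of `A`.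
All EARLIER files of this folder (linear import chain Defs, B01, B01b, B02, B03, B04, B05, B06, B07, B08, B09a, G09, B10, B11a, B11b, G11,
B12, B13a, B13b, G13, B14a, B14b, B14c, Main) are black boxes you may use.  Only replace the `sorry`s; names / statements / namespace verbatim;
aux lemmas: fresh names in a sub-namespace `B03`; extra imports of landed Lib files are fine.

RECIPE.  `≤ 4`: `c.hyp.rk (center X) inferInstance (center is Ab) (Om1Z X) (Om1Z ≤ center) (exponent 2)`.  `≥ 4`: `Om1Z X` is a 2-group so its card is `2^k`; if `k ≤ 1` then the abelian 2-group `↥(center X)` has at most 2 solutions of `z² = 1`, hence at most `2^j` solutions of `z^(2^j) = 1` (induction: squaring maps `Ω_{j+1}` to `Ω_j` with fibres of size ≤ 2), hence is cyclic (`isCyclic_of_card_pow_eq_one_le`, or any library lemma 'abelian p-group with a unique subgroup of order p is cyclic'), against `c.ncyc`.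
-/

set_option autoImplicit false

open Cfsg.Agent.Lib.Helper12.SC3

namespace Cfsg.Agent.Lib.Helper11.SC3B

variable {X : Type*} [Group X] {A : Subgroup (MulAut X)}

/-- `|Ω₁(Z)| = 4` -/
theorem Ctx.card_R [Finite X] (c : Ctx A) : Nat.card (Om1Z X) = 4 := by
  classical
  have hle : Nat.card (Om1Z X) ≤ 4 := by
    refine c.hyp.rk (Subgroup.center X) inferInstance ?_ (Om1Z X) (fun g hg => hg.1) (fun e he => he.2)
    intro a ha b hb
    exact (Subgroup.mem_center_iff.mp hb a)
  have hZ2 : IsPGroup 2 (Subgroup.center X) := c.hyp.two.to_subgroup _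
  obtain ⟨v1, v2, h1, h2, h12, hv1, hv2⟩ :=
    Cfsg.Agent.Lib.Helper20.ST74.exists_two_involutions (U := Subgroup.center X) hZ2
      (fun x y => Subtype.ext (Subgroup.mem_center_iff.mp y.2 x.1)) c.ncyc
  -- three distinct elements of R
  have hm1 : (v1 : X) ∈ Om1Z X := ⟨v1.2, by have := congrArg Subtype.val hv1; simpa using this⟩
  have hm2 : (v2 : X) ∈ Om1Z X := ⟨v2.2, by have := congrArg Subtype.val hv2; simpa using this⟩
  have hge : 3 ≤ Nat.card (Om1Z X) := by
    haveI : Fintype (Om1Z X) := Fintype.ofFinite _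
    have n1 : (1 : Om1Z X) ≠ ⟨v1, hm1⟩ := by
      intro h; apply h1; apply Subtype.ext
      have := congrArg (fun r : Om1Z X => (r : X)) h
      simpa using this.symm
    have n2 : (1 : Om1Z X) ≠ ⟨v2, hm2⟩ := by
      intro h; apply h2; apply Subtype.ext
      have := congrArg (fun r : Om1Z X => (r : X)) h
      simpa using this.symm
    have n12 : (⟨v1, hm1⟩ : Om1Z X) ≠ ⟨v2, hm2⟩ := by
      intro h; apply h12; apply Subtype.ext
      exact congrArg (fun r : Om1Z X => (r : X)) h
    have h3 : ({(1 : Om1Z X), ⟨v1, hm1⟩, ⟨v2, hm2⟩} : Finset (Om1Z X)).card = 3 :=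
      Finset.card_eq_three.mpr ⟨_, _, _, n1, n2, n12, rfl⟩
    rw [Nat.card_eq_fintype_card, ← h3]
    exact Finset.card_le_univ _
  have hR2 : IsPGroup 2 (Om1Z X) := c.hyp.two.to_subgroup _
  obtain ⟨k, hk⟩ := (IsPGroup.iff_card.mp hR2)
  rw [hk] at hle hge ⊢
  have hk2 : k ≤ 2 := by
    by_contra hcon
    push Not at hcon
    have : 2 ^ 3 ≤ 2 ^ k := Nat.pow_le_pow_right (by norm_num) hcon
    omega
  interval_cases k <;> omega

end Cfsg.Agent.Lib.Helper11.SC3B
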