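import Cfsg.Agent.Lib.Helper11.SC3B.B03

/-!
# S1904 farm, PART PC1b sub-farm (co-architect helper11) — leaf B04

Paper proof: Blueprint (1.4) in `Cfsg/Agent/Lib/Helper12/SC3/Blueprint.lean`.  Context `Ctx A` (`Defs.lean` of this folder):
`X` finite 2-group with the rank bound (`Hyp A`), `x² ∈ Z`, `[x,y] ∈ Z` for all `x y` (from PC1), `X` nonabelian, `Z = center X` noncyclic.
`R = Om1Z X = Ω₁(Z)`.  `FixR A` : every `φ ∈ A` fixes `R` pointwise.  `NoFixR A` : no `r ≠ 1` of `R` is fixed by all of `A`.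
All EARLIER files of this folder (linear import chain Defs, B01, B01b, B02, B03, B04, B05, B06, B07, B08, B09a, G09, B10, B11a, B11b, G11,
B12, B13a, B13b, G13, B14a, B14b, B14c, Main) are black boxes you may use.  Only replace the `sorry`s; names / statements / namespace verbatim;
aux lemmas: fresh names in a sub-namespace `B04`; extra imports of landed Lib files are fine.

RECIPE.  Blueprint (1.4)(i).  `E := Om1Z X ⊔ zpowers u`; elements are `r` or `r*u` (`r ∈ R` central).  `E` is abelian, of exponent 2, and normal: `g*u*g⁻¹ = (g*u*g⁻¹*u⁻¹)*u ∈ R*u` (`comm_mem_R`).  `c.hyp.rk E hnormal hab E le_rfl hexp : card E ≤ 4 = card R` (`card_R`), `R ≤ E`, so `E = R` (`Subgroup.eq_of_le_of_card_ge`) and `u ∈ R`.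
-/

set_option autoImplicit false

open Cfsg.Agent.Lib.Helper12.SC3

namespace Cfsg.Agent.Lib.Helper11.SC3B

variable {X : Type*} [Group X] {A : Subgroup (MulAut X)}

namespace B04

/-- `R ∪ R u` for an involution `u` -/
def EU (u : X) (hu : u ^ 2 = 1) : Subgroup X where
  carrier := {g | ∃ r ∈ Om1Z X, g = r ∨ g = r * u}
  one_mem' := ⟨1, (Om1Z X).one_mem, Or.inl rfl⟩
  mul_mem' := by
    rintro a b ⟨r, hr, ha⟩ ⟨s, hs, hb⟩
    have hsc := Subgroup.mem_center_iff.mp hs.1
    refine ⟨r * s, (Om1Z X).mul_mem hr hs, ?_⟩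
    rcases ha with rfl | rfl <;> rcases hb with rfl | rfl
    · left; rfl
    · right; group
    · right
      rw [mul_assoc, hsc u, ← mul_assoc]
    · left
      calc r * u * (s * u) = r * (u * s) * u := by group
        _ = r * (s * u) * u := by rw [hsc u]
        _ = r * s * u ^ 2 := by rw [pow_two]; group
        _ = r * s := by rw [hu, mul_one]
  inv_mem' := by
    rintro a ⟨r, hr, ha⟩
    have hrc := Subgroup.mem_center_iff.mp ((Subgroup.center X).inv_mem hr.1)
    have huinv : u⁻¹ = u := by rw [inv_eq_iff_mul_eq_one, ← pow_two, hu]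
    refine ⟨r⁻¹, (Om1Z X).inv_mem hr, ?_⟩
    rcases ha with rfl | rfl
    · left; rfl
    · right
      rw [mul_inv_rev, huinv, hrc u]

end B04

/-- every involution lies in `R = Ω₁(Z)` -/
theorem Ctx.invol_mem_R [Finite X] (c : Ctx A) {u : X} (hu : u ^ 2 = 1) : u ∈ Om1Z X := by
  have hRE : Om1Z X ≤ B04.EU u hu := fun r hr => ⟨r, hr, Or.inl rfl⟩
  have huE : u ∈ B04.EU u hu := ⟨1, (Om1Z X).one_mem, Or.inr (one_mul u).symm⟩
  have hnormal : (B04.EU u hu).Normal := by
    constructor
    rintro a ⟨r, hr, ha⟩ g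
    have hrc := Subgroup.mem_center_iff.mp hr.1
    rcases ha with rfl | rfl
    · refine ⟨a, hr, Or.inl ?_⟩
      rw [hrc g]; group
    · refine ⟨r * (g * u * g⁻¹ * u⁻¹), (Om1Z X).mul_mem hr (c.comm_mem_R g u), Or.inr ?_⟩
      calc g * (r * u) * g⁻¹ = (g * r) * u * g⁻¹ := by group
        _ = (r * g) * u * g⁻¹ := by rw [hrc g]
        _ = r * (g * u * g⁻¹ * u⁻¹) * u := by group
  have hab : Ab (B04.EU u hu) := by
    rintro a ⟨r, hr, ha⟩ b ⟨s, hs, hb⟩
    have hrc := Subgroup.mem_center_iff.mp hr.1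
    have hsc := Subgroup.mem_center_iff.mp hs.1
    rcases ha with rfl | rfl <;> rcases hb with rfl | rfl
    · exact hsc a
    · exact (hrc (s * u)).symm
    · exact hsc (r * u)
    · calc r * u * (s * u) = r * (u * s) * u := by group
        _ = r * (s * u) * u := by rw [hsc u]
        _ = (r * s) * u * u := by group
        _ = (s * r) * u * u := by rw [hsc r]
        _ = s * (r * u) * u := by group
        _ = s * (u * r) * u := by rw [hrc u]
        _ = s * u * (r * u) := by group
  have hexp : ∀ e ∈ B04.EU u hu, e ^ 2 = 1 := by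
    rintro e ⟨r, hr, he⟩
    have hrc := Subgroup.mem_center_iff.mp hr.1
    rcases he with rfl | rfl
    · exact hr.2
    · calc (r * u) ^ 2 = r * (u * r) * u := by rw [pow_two]; group
        _ = r * (r * u) * u := by rw [hrc u]
        _ = r ^ 2 * u ^ 2 := by rw [pow_two, pow_two]; group
        _ = 1 := by rw [hr.2, hu, one_mul]
  have hcard := c.hyp.rk _ hnormal hab _ le_rfl hexp
  have hEq : Om1Z X = B04.EU u hu :=
    Subgroup.eq_of_le_of_card_ge hRE (by rw [c.card_R]; exact hcard)
  rw [hEq]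
  exact huE

end Cfsg.Agent.Lib.Helper11.SC3B
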