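import Cfsg.Agent.Lib.Helper11.SC3B.B04
import Cfsg.Agent.Lib.Helper8.SC3G3

/-!
# S1904 farm, PART PC1b sub-farm (co-architect helper11) — leaf B05

Paper proof: Blueprint (1.4) in `Cfsg/Agent/Lib/Helper12/SC3/Blueprint.lean`.  Context `Ctx A` (`Defs.lean` of this folder):
`X` finite 2-group with the rank bound (`Hyp A`), `x² ∈ Z`, `[x,y] ∈ Z` for all `x y` (from PC1), `X` nonabelian, `Z = center X` noncyclic.
`R = Om1Z X = Ω₁(Z)`.  `FixR A` : every `φ ∈ A` fixes `R` pointwise.  `NoFixR A` : no `r ≠ 1` of `R` is fixed by all of `A`.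
All EARLIER files of this folder (linear import chain Defs, B01, B01b, B02, B03, B04, B05, B06, B07, B08, B09a, G09, B10, B11a, B11b, G11,
B12, B13a, B13b, G13, B14a, B14b, B14c, Main) are black boxes you may use.  Only replace the `sorry`s; names / statements / namespace verbatim;
aux lemmas: fresh names in a sub-namespace `B05`; extra imports of landed Lib files are fine.

RECIPE.  Blueprint (G3), coset form = helper9's `Cfsg.Agent.Lib.Helper9.SC3G.mem_of_fixed_coset` (file `Lib/Helper9/SC3G.lean`, requested in msg; if it is on main: import it and `exact`).  Direct proof: `Q = X ⧸ K` is commutative (`hab`); `N : X →* Q`, `N x = ∏ φ : A, mk (φ x)` is a hom; `N (y⁻¹ * ψ y) = 1` (reindex `φ ↦ φ * ψ`), so `N` is trivial on the closure `= ⊤` (`h.gen`); `mk (φ x) = mk x` by `hx`, so `mk x ^ card A = 1`; `mk x` has 2-power order (`h.two`), `card A` odd (`h.odd`): `mk x = 1`.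
-/

set_option autoImplicit false

open Cfsg.Agent.Lib.Helper12.SC3

namespace Cfsg.Agent.Lib.Helper11.SC3B

variable {X : Type*} [Group X] {A : Subgroup (MulAut X)}

/-- (G3): an element whose coset mod `K` is fixed by all of `A` lies in `K`, if `X/K` is abelian -/
theorem mem_of_fixed_coset [Finite X] (h : Hyp A) (K : Subgroup X) (hK : K.Normal)
    (hab : ∀ x y : X, x * y * x⁻¹ * y⁻¹ ∈ K) {x : X} (hx : ∀ φ ∈ A, x⁻¹ * φ x ∈ K) : x ∈ K := by
  haveI := hK
  exact Cfsg.Agent.Lib.Helper8.SC3G3.Hyp_fixedMod_mem h K hab x hx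

end Cfsg.Agent.Lib.Helper11.SC3B
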