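import Cfsg.Agent.Lib.Helper11.SC3B.B05
import Cfsg.Agent.Lib.Helper12.SC3.G

/-!
# S1904 farm, PART PC1b sub-farm (co-architect helper11) — leaf B06

Paper proof: Blueprint (1.4) in `Cfsg/Agent/Lib/Helper12/SC3/Blueprint.lean`.  Context `Ctx A` (`Defs.lean` of this folder):
`X` finite 2-group with the rank bound (`Hyp A`), `x² ∈ Z`, `[x,y] ∈ Z` for all `x y` (from PC1), `X` nonabelian, `Z = center X` noncyclic.
`R = Om1Z X = Ω₁(Z)`.  `FixR A` : every `φ ∈ A` fixes `R` pointwise.  `NoFixR A` : no `r ≠ 1` of `R` is fixed by all of `A`.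
All EARLIER files of this folder (linear import chain Defs, B01, B01b, B02, B03, B04, B05, B06, B07, B08, B09a, G09, B10, B11a, B11b, G11,
B12, B13a, B13b, G13, B14a, B14b, B14c, Main) are black boxes you may use.  Only replace the `sorry`s; names / statements / namespace verbatim;
aux lemmas: fresh names in a sub-namespace `B06`; extra imports of landed Lib files are fine.

RECIPE.  Blueprint (G4) for `N = center X` = helper9's `SC3G.fix_of_fix_omega` + `SC3G.orderOf_odd_of_mem` (if on main: import and apply with `N := center X`; `φ` maps the centre to itself).  Direct proof: induction on the order of `z ∈ Z`: `z² ` is fixed by induction, so `t := z⁻¹ * φ z` has `t² = 1`, `t ∈ R` is fixed, `φ^m z = z * t^m`, `m = orderOf φ` odd, so `t = 1`.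
-/

set_option autoImplicit false

open Cfsg.Agent.Lib.Helper12.SC3

namespace Cfsg.Agent.Lib.Helper11.SC3B

variable {X : Type*} [Group X] {A : Subgroup (MulAut X)}

/-- (G4): if `A` fixes `R = Ω₁(Z)` pointwise then `A` fixes `Z` pointwise -/
theorem fix_center_of_fixR [Finite X] (h : Hyp A) (hF : FixR A) :
    ∀ φ ∈ A, ∀ z ∈ Subgroup.center X, φ z = z := by
  intro φ hφ
  have hodd : Odd (orderOf φ) := by
    have h1 : orderOf (⟨φ, hφ⟩ : A) ∣ Nat.card A := orderOf_dvd_natCard _
    have h3 : orderOf (⟨φ, hφ⟩ : A) = orderOf φ := Subgroup.orderOf_mk φ hφ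
    rw [h3] at h1
    exact h.odd.of_dvd_nat h1
  have hcen : ∀ v ∈ Subgroup.center X, φ v ∈ Subgroup.center X := by
    intro v hv
    rw [Subgroup.mem_center_iff] at hv ⊢
    intro g
    have h3 := congrArg φ (hv (φ.symm g))
    simpa using h3
  refine fix_of_fix_involutions h.two (Subgroup.center X) ?_ φ hodd hcen ?_
  · intro a ha b _
    exact ((Subgroup.mem_center_iff.mp ha) b).symm
  · intro v hv hv2
    exact hF φ hφ v ⟨hv, hv2⟩

end Cfsg.Agent.Lib.Helper11.SC3B
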