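import Cfsg.Agent.Lib.Helper11.SC3B.B06

/-!
# S1904 farm, PART PC1b sub-farm (co-architect helper11) — leaf B07

Paper proof: Blueprint (1.4) in `Cfsg/Agent/Lib/Helper12/SC3/Blueprint.lean`.  Context `Ctx A` (`Defs.lean` of this folder):
`X` finite 2-group with the rank bound (`Hyp A`), `x² ∈ Z`, `[x,y] ∈ Z` for all `x y` (from PC1), `X` nonabelian, `Z = center X` noncyclic.
`R = Om1Z X = Ω₁(Z)`.  `FixR A` : every `φ ∈ A` fixes `R` pointwise.  `NoFixR A` : no `r ≠ 1` of `R` is fixed by all of `A`.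
All EARLIER files of this folder (linear import chain Defs, B01, B01b, B02, B03, B04, B05, B06, B07, B08, B09a, G09, B10, B11a, B11b, G11,
B12, B13a, B13b, G13, B14a, B14b, B14c, Main) are black boxes you may use.  Only replace the `sorry`s; names / statements / namespace verbatim;
aux lemmas: fresh names in a sub-namespace `B07`; extra imports of landed Lib files are fine.

RECIPE.  Suppose `φ₀ ∈ A` moves `r₀ ∈ R` and some `r₁ ≠ 1` in `R` is fixed by all of `A`.  `R = {1, r₁, r₀, r₁*r₀}` (`card_R`; `R` is `φ₀`-invariant: automorphisms preserve the centre and `g² = 1`).  `φ₀ r₀ ∉ {1, r₀, r₁}` so `φ₀ r₀ = r₁ * r₀`, then `φ₀² r₀ = r₀`; `φ₀` has odd order `m` (divides `card A`, `c.hyp.odd`), `φ₀ = (φ₀²)^((m+1)/2)` fixes `r₀`: contradiction.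
-/

set_option autoImplicit false

open Cfsg.Agent.Lib.Helper12.SC3

namespace Cfsg.Agent.Lib.Helper11.SC3B

variable {X : Type*} [Group X] {A : Subgroup (MulAut X)}

namespace B07

theorem odd_orderOf (hodd : Odd (Nat.card A)) {φ : MulAut X} (hφ : φ ∈ A) : Odd (orderOf φ) := by
  have h1 : orderOf (⟨φ, hφ⟩ : A) ∣ Nat.card A := orderOf_dvd_natCard _
  rw [Subgroup.orderOf_mk] at h1
  exact Odd.of_dvd_nat hodd h1

theorem pow_fix {ψ : MulAut X} {w : X} (h : ψ w = w) (j : ℕ) : (ψ ^ j) w = w := by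
  induction j with
  | zero => simp
  | succ j ih => rw [pow_succ, MulAut.mul_apply, h, ih]

/-- an automorphism of odd order with `φ (φ v) = v` fixes `v` -/
theorem odd_fix {φ : MulAut X} (hodd : Odd (orderOf φ)) {v : X} (h2 : φ (φ v) = v) : φ v = v := by
  obtain ⟨k, hk⟩ := hodd
  have hψ : (φ ^ 2) (φ v) = φ v := by
    rw [pow_two, MulAut.mul_apply, h2]
  have h1 : (φ ^ (2 * k + 1)) v = v := by
    rw [← hk, pow_orderOf_eq_one]; rfl
  rw [pow_succ, MulAut.mul_apply, pow_mul, pow_fix hψ k] at h1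
  exact h1

theorem map_mem_center (φ : MulAut X) {z : X} (hz : z ∈ Subgroup.center X) : φ z ∈ Subgroup.center X := by
  rw [Subgroup.mem_center_iff] at hz ⊢
  intro g
  have := congrArg φ (hz (φ⁻¹ g))
  simpa using this

theorem map_mem_R (φ : MulAut X) {r : X} (hr : r ∈ Om1Z X) : φ r ∈ Om1Z X :=
  ⟨map_mem_center φ hr.1, by rw [← map_pow, hr.2, map_one]⟩

/-- an odd-order automorphism fixing a subgroup of order two of `R` pointwise fixes `R` pointwise -/
theorem fix_of_card_two [Finite X] (c : Ctx A) {φ : MulAut X} (hodd : Odd (orderOf φ)) (S : Subgroup X)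
    (hS : S ≤ Om1Z X) (hS2 : Nat.card S = 2) (hfix : ∀ s ∈ S, φ s = s) : ∀ v ∈ Om1Z X, φ v = v := by
  intro v hv
  have hidx : (S.subgroupOf (Om1Z X)).index = 2 := by
    have h1 := Subgroup.card_mul_index (S.subgroupOf (Om1Z X))
    have h2 : Nat.card (S.subgroupOf (Om1Z X)) = Nat.card S :=
      Nat.card_congr (Subgroup.subgroupOfEquivOfLe hS).toEquiv
    rw [h2, hS2, c.card_R] at h1
    omega
  have hφv : φ v ∈ Om1Z X := map_mem_R φ hv
  have hmem : v⁻¹ * φ v ∈ S := by
    have key := Subgroup.mul_mem_iff_of_index_two hidx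
      (a := (⟨v⁻¹, Subgroup.inv_mem _ hv⟩ : Om1Z X)) (b := (⟨φ v, hφv⟩ : Om1Z X))
    have : ((⟨v⁻¹, Subgroup.inv_mem _ hv⟩ : Om1Z X) ∈ S.subgroupOf (Om1Z X) ↔
        (⟨φ v, hφv⟩ : Om1Z X) ∈ S.subgroupOf (Om1Z X)) := by
      simp only [Subgroup.mem_subgroupOf]
      constructor
      · intro h
        have hvS : v ∈ S := by simpa using Subgroup.inv_mem _ h
        rw [hfix v hvS]; exact hvS
      · intro h
        have e : φ (φ v) = φ v := hfix _ h
        have hvv : φ v = v := φ.injective e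
        rw [hvv] at h
        exact Subgroup.inv_mem _ h
    have := key.mpr this
    simpa [Subgroup.mem_subgroupOf] using this
  set t := v⁻¹ * φ v with ht
  have hφt : φ t = t := hfix t hmem
  have ht2 : t ^ 2 = 1 := (hS hmem).2
  have hφv' : φ v = v * t := by rw [ht]; group
  have h2 : φ (φ v) = v := by
    rw [hφv', map_mul, hφv', hφt, mul_assoc, ← pow_two, ht2, mul_one]
  exact odd_fix hodd h2

end B07

/-- either `A` fixes `R` pointwise, or no nonidentity element of `R` is fixed by all of `A` -/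
theorem Ctx.fixR_or_noFixR [Finite X] (c : Ctx A) : FixR A ∨ NoFixR A := by
  by_contra hcon
  push Not at hcon
  obtain ⟨hF, hT⟩ := hcon
  unfold FixR at hF
  unfold NoFixR at hT
  push Not at hF hT
  obtain ⟨φ₀, hφ₀, r₀, hr₀, hmv⟩ := hF
  obtain ⟨r₁, hr₁, hr₁ne, hfix₁⟩ := hT
  have hord : orderOf r₁ = 2 := orderOf_eq_prime hr₁.2 hr₁ne
  have hS2 : Nat.card (Subgroup.zpowers r₁) = 2 := by rw [Nat.card_zpowers, hord]
  have hSle : Subgroup.zpowers r₁ ≤ Om1Z X := by
    rw [Subgroup.zpowers_le]; exact hr₁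
  have hfixS : ∀ s ∈ Subgroup.zpowers r₁, φ₀ s = s := by
    intro s hs
    obtain ⟨k, rfl⟩ := Subgroup.mem_zpowers_iff.mp hs
    rw [map_zpow, hfix₁ φ₀ hφ₀]
  exact hmv (B07.fix_of_card_two c (B07.odd_orderOf c.hyp.odd hφ₀) _ hSle hS2 hfixS r₀ hr₀)

end Cfsg.Agent.Lib.Helper11.SC3B
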