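import Cfsg.Agent.Lib.Helper11.SC3B.B07

/-!
# S1904 farm, PART PC1b sub-farm (co-architect helper11) — leaf B08

Paper proof: Blueprint (1.4) in `Cfsg/Agent/Lib/Helper12/SC3/Blueprint.lean`.  Context `Ctx A` (`Defs.lean` of this folder):
`X` finite 2-group with the rank bound (`Hyp A`), `x² ∈ Z`, `[x,y] ∈ Z` for all `x y` (from PC1), `X` nonabelian, `Z = center X` noncyclic.
`R = Om1Z X = Ω₁(Z)`.  `FixR A` : every `φ ∈ A` fixes `R` pointwise.  `NoFixR A` : no `r ≠ 1` of `R` is fixed by all of `A`.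
All EARLIER files of this folder (linear import chain Defs, B01, B01b, B02, B03, B04, B05, B06, B07, B08, B09a, G09, B10, B11a, B11b, G11,
B12, B13a, B13b, G13, B14a, B14b, B14c, Main) are black boxes you may use.  Only replace the `sorry`s; names / statements / namespace verbatim;
aux lemmas: fresh names in a sub-namespace `B08`; extra imports of landed Lib files are fine.

RECIPE.  `S ≤ R`, `card R = 4` (`card_R`), `S ≠ ⊥`: `card S ∈ {2, 4}` (divides 4).  If `card S = 4`: `S = R`.  If `card S = 2`: `S = {1, s}`, every `φ ∈ A` maps `s` into `S ∖ {1}` (`hinv`, injective), so fixes `s`; `hT s _ _` gives a contradiction.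
-/

set_option autoImplicit false

open Cfsg.Agent.Lib.Helper12.SC3

namespace Cfsg.Agent.Lib.Helper11.SC3B

variable {X : Type*} [Group X] {A : Subgroup (MulAut X)}

/-- under `NoFixR`, the only `A`-invariant subgroups of `R` are `⊥` and `R` -/
theorem Ctx.eq_R_of_inv [Finite X] (c : Ctx A) (hT : NoFixR A) (S : Subgroup X) (hS : S ≤ Om1Z X)
    (hinv : Inv A S) (hne : S ≠ ⊥) : S = Om1Z X := by
  have hdvd : Nat.card S ∣ Nat.card (Om1Z X) := Subgroup.card_dvd_of_le hS
  rw [c.card_R] at hdvd
  have h1 : Nat.card S ≠ 1 := fun h => hne (Subgroup.card_eq_one.mp h)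
  have hle : Nat.card S ≤ 4 := Nat.le_of_dvd (by norm_num) hdvd
  have hpos : 0 < Nat.card S := Nat.card_pos
  have hcases : Nat.card S = 2 ∨ Nat.card S = 4 := by
    have : Nat.card S = 2 ∨ Nat.card S = 3 ∨ Nat.card S = 4 := by omega
    rcases this with h | h | h
    · exact Or.inl h
    · rw [h] at hdvd; omega
    · exact Or.inr h
  rcases hcases with h2 | h4
  · exfalso
    obtain ⟨y, hy1, hy⟩ := (Nat.card_eq_two_iff' (1 : S)).mp h2
    have hyne : (y : X) ≠ 1 := fun h => hy1 (Subtype.ext h)
    obtain ⟨φ, hφ, hmv⟩ := hT (y : X) (hS y.2) hyne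
    have hφy1 : φ (y : X) ≠ 1 := fun h => hyne (by simpa using h)
    have e : (⟨φ (y : X), hinv φ hφ _ y.2⟩ : S) = y :=
      hy _ (fun h => hφy1 (by simpa using congrArg Subtype.val h))
    exact hmv (by simpa using congrArg Subtype.val e)
  · exact Subgroup.eq_of_le_of_card_ge hS (by rw [c.card_R, h4])

end Cfsg.Agent.Lib.Helper11.SC3B
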