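import Cfsg.Agent.Lib.Helper11.SC3B.B08

/-!
# S1904 farm, PART PC1b sub-farm (co-architect helper11) — leaf B09a

Paper proof: Blueprint (1.4) in `Cfsg/Agent/Lib/Helper12/SC3/Blueprint.lean`.  Context `Ctx A` (`Defs.lean` of this folder):
`X` finite 2-group with the rank bound (`Hyp A`), `x² ∈ Z`, `[x,y] ∈ Z` for all `x y` (from PC1), `X` nonabelian, `Z = center X` noncyclic.
`R = Om1Z X = Ω₁(Z)`.  `FixR A` : every `φ ∈ A` fixes `R` pointwise.  `NoFixR A` : no `r ≠ 1` of `R` is fixed by all of `A`.
All EARLIER files of this folder (linear import chain Defs, B01, B01b, B02, B03, B04, B05, B06, B07, B08, B09a, G09, B10, B11a, B11b, G11,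
B12, B13a, B13b, G13, B14a, B14b, B14c, Main) are black boxes you may use.  Only replace the `sorry`s; names / statements / namespace verbatim;
aux lemmas: fresh names in a sub-namespace `B09a`; extra imports of landed Lib files are fine.

RECIPE.  `commutator X` is characteristic (`Subgroup.commutator_characteristic`/`commutator` instance `Subgroup.Characteristic`): `Subgroup.Characteristic.map_eq`/`comap_eq` with `φ.toMonoidHom`.  `commutator X ≠ ⊥`: else `X` commutative (`commutator_eq_bot_iff_center_eq_top` / `Abelianization`), against `c.na`.
-/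

set_option autoImplicit false

open Cfsg.Agent.Lib.Helper12.SC3

namespace Cfsg.Agent.Lib.Helper11.SC3B

variable {X : Type*} [Group X] {A : Subgroup (MulAut X)}

/-- the commutator subgroup is invariant under every automorphism -/
theorem inv_commutator (A : Subgroup (MulAut X)) : Inv A (commutator X) := by
  intro φ _ x hx
  have hchar : (commutator X).Characteristic := inferInstance
  have hfix := hchar.fixed φ
  rw [← hfix] at hx
  exact hx

open scoped commutatorElement in
theorem Ctx.commutator_ne_bot (c : Ctx A) : commutator X ≠ ⊥ := by
  intro hbot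
  apply c.na
  rw [isMulCommutative_iff]
  intro a b
  have hmem : ⁅a, b⁆ ∈ commutator X := by
    rw [commutator_def]
    exact Subgroup.commutator_mem_commutator (Subgroup.mem_top a) (Subgroup.mem_top b)
  rw [hbot, Subgroup.mem_bot] at hmem
  exact commutatorElement_eq_one_iff_mul_comm.mp hmem

end Cfsg.Agent.Lib.Helper11.SC3B
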