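import Cfsg.Agent.Lib.Helper11.SC3B.G09

/-!
# S1904 farm, PART PC1b sub-farm (co-architect helper11) — leaf B10

Paper proof: Blueprint (1.4) in `Cfsg/Agent/Lib/Helper12/SC3/Blueprint.lean`.  Context `Ctx A` (`Defs.lean` of this folder):
`X` finite 2-group with the rank bound (`Hyp A`), `x² ∈ Z`, `[x,y] ∈ Z` for all `x y` (from PC1), `X` nonabelian, `Z = center X` noncyclic.
`R = Om1Z X = Ω₁(Z)`.  `FixR A` : every `φ ∈ A` fixes `R` pointwise.  `NoFixR A` : no `r ≠ 1` of `R` is fixed by all of `A`.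
All EARLIER files of this folder (linear import chain Defs, B01, B01b, B02, B03, B04, B05, B06, B07, B08, B09a, G09, B10, B11a, B11b, G11,
B12, B13a, B13b, G13, B14a, B14b, B14c, Main) are black boxes you may use.  Only replace the `sorry`s; names / statements / namespace verbatim;
aux lemmas: fresh names in a sub-namespace `B10`; extra imports of landed Lib files are fine.

RECIPE.  `X/Z` has order ≤ 4 and exponent 2 (`c.sq`).  Pick `x ∉ Z` (nonabelian) and `y ∉ Z ⊔ zpowers x` if possible; every element is `x^i * y^j * z`, so every commutator is a power of `k := x*y*x⁻¹*y⁻¹` (`comm_mul_left/right`, `comm_mul_central`, `[x,x] = 1`), `k² = 1` (`comm_sq`).  So `commutator X ≤ zpowers k` of order ≤ 2.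
-/

set_option autoImplicit false

open Cfsg.Agent.Lib.Helper12.SC3

namespace Cfsg.Agent.Lib.Helper11.SC3B

variable {X : Type*} [Group X] {A : Subgroup (MulAut X)}

namespace B10

/-- the cosets `1, x, y, xy` exhaust `X ⧸ Z` when `[x,y] ≠ 1` and `|X : Z| ≤ 4` -/
theorem decomp [Finite X] (c : Ctx A) (hidx : (Subgroup.center X).index ≤ 4) {x y : X}
    (hk : x * y * x⁻¹ * y⁻¹ ≠ 1) (g : X) :
    ∃ w z : X, z ∈ Subgroup.center X ∧ g = w * z ∧ (w = 1 ∨ w = x ∨ w = y ∨ w = x * y) := by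
  classical
  have hxZ : x ∉ Subgroup.center X := by
    intro hx
    apply hk
    have h1 : y * x = x * y := Subgroup.mem_center_iff.mp hx y
    calc x * y * x⁻¹ * y⁻¹ = y * x * x⁻¹ * y⁻¹ := by rw [h1]
      _ = 1 := by group
  have hyZ : y ∉ Subgroup.center X := by
    intro hy
    apply hk
    have h1 : x * y = y * x := Subgroup.mem_center_iff.mp hy x
    calc x * y * x⁻¹ * y⁻¹ = y * x * x⁻¹ * y⁻¹ := by rw [h1]
      _ = 1 := by group
  have hyx : y⁻¹ * x ∉ Subgroup.center X := by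
    intro hz
    apply hk
    have h1 : x = y * (y⁻¹ * x) := by group
    have h2 := c.comm_mul_central y y hz
    rw [← h1] at h2
    rw [h2]; group
  have hxyZ : x * y ∉ Subgroup.center X := by
    intro hz
    apply hk
    have h1 : x⁻¹ * (x * y) = (x * y) * x⁻¹ := Subgroup.mem_center_iff.mp hz x⁻¹
    calc x * y * x⁻¹ * y⁻¹ = x⁻¹ * (x * y) * y⁻¹ := by rw [h1]
      _ = 1 := by group
  have hx1 : (QuotientGroup.mk x : X ⧸ Subgroup.center X) ≠ 1 :=
    fun h => hxZ ((QuotientGroup.eq_one_iff x).mp h)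
  have hy1 : (QuotientGroup.mk y : X ⧸ Subgroup.center X) ≠ 1 :=
    fun h => hyZ ((QuotientGroup.eq_one_iff y).mp h)
  have hyx' : (QuotientGroup.mk y : X ⧸ Subgroup.center X) ≠ QuotientGroup.mk x :=
    fun h => hyx (QuotientGroup.eq.mp h)
  have hxy1 : (QuotientGroup.mk x : X ⧸ Subgroup.center X) * QuotientGroup.mk y ≠ 1 := by
    intro h
    rw [← QuotientGroup.mk_mul] at h
    exact hxyZ ((QuotientGroup.eq_one_iff _).mp h)
  have hs : ({1, QuotientGroup.mk x, QuotientGroup.mk y,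
      QuotientGroup.mk x * QuotientGroup.mk y} : Finset (X ⧸ Subgroup.center X)).card = 4 := by
    rw [Finset.card_insert_of_notMem, Finset.card_insert_of_notMem, Finset.card_insert_of_notMem,
      Finset.card_singleton]
    · simp only [Finset.mem_singleton]
      intro h
      exact hx1 (by simpa using h)
    · simp only [Finset.mem_insert, Finset.mem_singleton, not_or]
      exact ⟨hyx'.symm, fun h => hy1 (by simpa using h)⟩
    · simp only [Finset.mem_insert, Finset.mem_singleton, not_or]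
      exact ⟨hx1.symm, hy1.symm, hxy1.symm⟩
  have : Fintype (X ⧸ Subgroup.center X) := Fintype.ofFinite _
  have hQ : Fintype.card (X ⧸ Subgroup.center X) ≤ 4 := by
    rw [← Nat.card_eq_fintype_card]; exact hidx
  have hsu := Finset.eq_univ_of_card _ (le_antisymm (Finset.card_le_univ _) (hs ▸ hQ))
  have hg : (QuotientGroup.mk g : X ⧸ Subgroup.center X) ∈ ({1, QuotientGroup.mk x, QuotientGroup.mk y,
      QuotientGroup.mk x * QuotientGroup.mk y} : Finset (X ⧸ Subgroup.center X)) := by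
    rw [hsu]; exact Finset.mem_univ _
  simp only [Finset.mem_insert, Finset.mem_singleton] at hg
  have key : ∀ w : X, (QuotientGroup.mk g : X ⧸ Subgroup.center X) = QuotientGroup.mk w →
      ∃ z : X, z ∈ Subgroup.center X ∧ g = w * z := by
    intro w hw
    exact ⟨w⁻¹ * g, QuotientGroup.eq.mp hw.symm, by group⟩
  rcases hg with h | h | h | h
  · obtain ⟨z, hz, e⟩ := key 1 (by rw [h]; rfl)
    exact ⟨1, z, hz, e, Or.inl rfl⟩
  · obtain ⟨z, hz, e⟩ := key x h
    exact ⟨x, z, hz, e, Or.inr (Or.inl rfl)⟩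
  · obtain ⟨z, hz, e⟩ := key y h
    exact ⟨y, z, hz, e, Or.inr (Or.inr (Or.inl rfl))⟩
  · obtain ⟨z, hz, e⟩ := key (x * y) (by rw [h]; rfl)
    exact ⟨x * y, z, hz, e, Or.inr (Or.inr (Or.inr rfl))⟩

/-- if `[x,h]` and `[y,h]` lie in `K` then so does every `[g,h]` -/
theorem spread [Finite X] (c : Ctx A) (hidx : (Subgroup.center X).index ≤ 4) {x y : X}
    (hk : x * y * x⁻¹ * y⁻¹ ≠ 1) (K : Subgroup X) (h : X)
    (hx : x * h * x⁻¹ * h⁻¹ ∈ K) (hy : y * h * y⁻¹ * h⁻¹ ∈ K) (g : X) :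
    g * h * g⁻¹ * h⁻¹ ∈ K := by
  obtain ⟨w, z, hz, rfl, hw⟩ := decomp c hidx hk g
  rw [c.comm_mul_central w h hz]
  rcases hw with rfl | rfl | rfl | rfl
  · have : (1 : X) * h * 1⁻¹ * h⁻¹ = 1 := by group
    rw [this]; exact K.one_mem
  · exact hx
  · exact hy
  · rw [c.comm_mul_left]; exact K.mul_mem hx hy

end B10

/-- if `|X : Z| ≤ 4` then `|X'| ≤ 2` -/
theorem Ctx.card_commutator_le_two [Finite X] (c : Ctx A) (hidx : (Subgroup.center X).index ≤ 4) :
    Nat.card (commutator X) ≤ 2 := by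
  classical
  have hxy : ∃ x y : X, x * y * x⁻¹ * y⁻¹ ≠ 1 := by
    by_contra hne
    push Not at hne
    apply c.na
    refine ⟨⟨fun x y => ?_⟩⟩
    have h1 := hne x y
    calc x * y = (x * y * x⁻¹ * y⁻¹) * (y * x) := by group
      _ = y * x := by rw [h1, one_mul]
  obtain ⟨x, y, hk⟩ := hxy
  have hK : Nat.card (Subgroup.zpowers (x * y * x⁻¹ * y⁻¹)) ≤ 2 := by
    rw [Nat.card_zpowers]
    exact orderOf_le_of_pow_eq_one (by norm_num) (c.comm_sq x y)
  have hkK : x * y * x⁻¹ * y⁻¹ ∈ Subgroup.zpowers (x * y * x⁻¹ * y⁻¹) := Subgroup.mem_zpowers _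
  have h1K : ∀ g : X, g * g * g⁻¹ * g⁻¹ ∈ Subgroup.zpowers (x * y * x⁻¹ * y⁻¹) := by
    intro g
    have : g * g * g⁻¹ * g⁻¹ = 1 := by group
    rw [this]; exact Subgroup.one_mem _
  generalize Subgroup.zpowers (x * y * x⁻¹ * y⁻¹) = K at hK hkK h1K
  -- `[x,h]` and `[y,h]` lie in `K` for every `h`
  have hxh : ∀ h : X, x * h * x⁻¹ * h⁻¹ ∈ K := by
    intro h
    rw [← c.comm_swap]
    exact B10.spread c hidx hk _ x (h1K x) (by rw [c.comm_swap]; exact hkK) h
  have hyh : ∀ h : X, y * h * y⁻¹ * h⁻¹ ∈ K := by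
    intro h
    rw [← c.comm_swap]
    exact B10.spread c hidx hk _ y hkK (h1K y) h
  have hle : commutator X ≤ K := by
    rw [commutator_def, Subgroup.commutator_le]
    intro g _ h _
    rw [commutatorElement_def]
    exact B10.spread c hidx hk _ h (hxh h) (hyh h) g
  exact le_trans (Subgroup.card_le_of_le hle) hK

end Cfsg.Agent.Lib.Helper11.SC3B
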