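import Cfsg.Agent.Lib.Helper11.SC3B.B10

/-!
# S1904 farm, PART PC1b sub-farm (co-architect helper11) — leaf B11a

Paper proof: Blueprint (1.4) in `Cfsg/Agent/Lib/Helper12/SC3/Blueprint.lean`.  Context `Ctx A` (`Defs.lean` of this folder):
`X` finite 2-group with the rank bound (`Hyp A`), `x² ∈ Z`, `[x,y] ∈ Z` for all `x y` (from PC1), `X` nonabelian, `Z = center X` noncyclic.
`R = Om1Z X = Ω₁(Z)`.  `FixR A` : every `φ ∈ A` fixes `R` pointwise.  `NoFixR A` : no `r ≠ 1` of `R` is fixed by all of `A`.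
All EARLIER files of this folder (linear import chain Defs, B01, B01b, B02, B03, B04, B05, B06, B07, B08, B09a, G09, B10, B11a, B11b, G11,
B12, B13a, B13b, G13, B14a, B14b, B14c, Main) are black boxes you may use.  Only replace the `sorry`s; names / statements / namespace verbatim;
aux lemmas: fresh names in a sub-namespace `B11a`; extra imports of landed Lib files are fine.

RECIPE.  Replace `z₀` by a power of order exactly 4: `w ∈ Z`, `w² ≠ 1`, `w⁴ = 1`, so `w² ∈ R ∖ 1`.  `Zsq := {z² | z ∈ Z}` is a subgroup (`Z` abelian), `A`-invariant (automorphisms preserve the centre).  `S := Zsq ⊓ R ≠ ⊥`, `Inv A S`, so `S = R` by `eq_R_of_inv`, i.e. `R ≤ Zsq`.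
-/

set_option autoImplicit false

open Cfsg.Agent.Lib.Helper12.SC3

namespace Cfsg.Agent.Lib.Helper11.SC3B

variable {X : Type*} [Group X] {A : Subgroup (MulAut X)}

namespace B11a

/-- the subgroup of squares of central elements -/
def Zsq (X : Type*) [Group X] : Subgroup X where
  carrier := {g | ∃ z ∈ Subgroup.center X, g = z ^ 2}
  one_mem' := ⟨1, Subgroup.one_mem _, (one_pow 2).symm⟩
  inv_mem' := by
    rintro g ⟨z, hz, rfl⟩
    exact ⟨z⁻¹, Subgroup.inv_mem _ hz, (inv_pow z 2).symm⟩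
  mul_mem' := by
    rintro g g' ⟨z, hz, rfl⟩ ⟨z', hz', rfl⟩
    refine ⟨z * z', Subgroup.mul_mem _ hz hz', ?_⟩
    have hc : Commute z z' := (Subgroup.mem_center_iff.mp hz z').symm
    rw [hc.mul_pow]

end B11a

/-- under `NoFixR`, if `Z` has an element of order 4 then every element of `R` is a square in `Z` -/
theorem Ctx.R_le_sq [Finite X] (c : Ctx A) (hT : NoFixR A) {z₀ : X} (hz₀ : z₀ ∈ Subgroup.center X)
    (hz₀2 : z₀ ^ 2 ≠ 1) : ∀ r ∈ Om1Z X, ∃ z ∈ Subgroup.center X, r = z ^ 2 := by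
  -- an element `w` of the centre with `w² ≠ 1`, `w⁴ = 1`
  obtain ⟨k, hk⟩ : ∃ k, orderOf z₀ = 2 ^ k :=
    (exists_orderOf_eq_prime_pow_iff (p := 2)).mpr (c.hyp.two z₀)
  have hk2 : 2 ≤ k := by
    by_contra hlt
    push Not at hlt
    have hk' : k = 0 ∨ k = 1 := by omega
    rcases hk' with rfl | rfl
    · rw [pow_zero, orderOf_eq_one_iff] at hk
      exact hz₀2 (by rw [hk, one_pow])
    · rw [pow_one] at hk
      exact hz₀2 (by rw [← hk, pow_orderOf_eq_one])
  set w := z₀ ^ (2 ^ (k - 2)) with hw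
  have hwZ : w ∈ Subgroup.center X := Subgroup.pow_mem _ hz₀ _
  have hw2 : w ^ 2 = z₀ ^ (2 ^ (k - 1)) := by
    rw [hw, ← pow_mul]
    congr 1
    have : k - 1 = (k - 2) + 1 := by omega
    rw [this, pow_succ]
  have hw2ne : w ^ 2 ≠ 1 := by
    rw [hw2]
    apply pow_ne_one_of_lt_orderOf (by positivity)
    rw [hk]
    exact Nat.pow_lt_pow_right (by norm_num) (by omega)
  have hw4 : (w ^ 2) ^ 2 = 1 := by
    rw [hw2, ← pow_mul]
    have : 2 ^ (k - 1) * 2 = 2 ^ k := by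
      have : k = (k - 1) + 1 := by omega
      conv_rhs => rw [this, pow_succ]
    rw [this, ← hk, pow_orderOf_eq_one]
  have hw2R : w ^ 2 ∈ Om1Z X := ⟨Subgroup.pow_mem _ hwZ 2, hw4⟩
  let S : Subgroup X := B11a.Zsq X ⊓ Om1Z X
  have hSle : S ≤ Om1Z X := inf_le_right
  have hSne : S ≠ ⊥ := by
    intro hbot
    have : w ^ 2 ∈ S := Subgroup.mem_inf.mpr ⟨⟨w, hwZ, rfl⟩, hw2R⟩
    rw [hbot] at this
    exact hw2ne (by simpa using this)
  have hSinv : Inv A S := by
    intro φ hφ x hx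
    obtain ⟨⟨z, hz, rfl⟩, hxR⟩ := Subgroup.mem_inf.mp hx
    refine Subgroup.mem_inf.mpr ⟨⟨φ z, B07.map_mem_center φ hz, by rw [map_pow]⟩, B07.map_mem_R φ hxR⟩
  have hEq := c.eq_R_of_inv hT S hSle hSinv hSne
  intro r hr
  have : r ∈ S := by rw [hEq]; exact hr
  exact (Subgroup.mem_inf.mp this).1

end Cfsg.Agent.Lib.Helper11.SC3B
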