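import Cfsg.Agent.Lib.Helper11.SC3B.B11a

/-!
# S1904 farm, PART PC1b sub-farm (co-architect helper11) — leaf B11b

Paper proof: Blueprint (1.4) in `Cfsg/Agent/Lib/Helper12/SC3/Blueprint.lean`.  Context `Ctx A` (`Defs.lean` of this folder):
`X` finite 2-group with the rank bound (`Hyp A`), `x² ∈ Z`, `[x,y] ∈ Z` for all `x y` (from PC1), `X` nonabelian, `Z = center X` noncyclic.
`R = Om1Z X = Ω₁(Z)`.  `FixR A` : every `φ ∈ A` fixes `R` pointwise.  `NoFixR A` : no `r ≠ 1` of `R` is fixed by all of `A`.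
All EARLIER files of this folder (linear import chain Defs, B01, B01b, B02, B03, B04, B05, B06, B07, B08, B09a, G09, B10, B11a, B11b, G11,
B12, B13a, B13b, G13, B14a, B14b, B14c, Main) are black boxes you may use.  Only replace the `sorry`s; names / statements / namespace verbatim;
aux lemmas: fresh names in a sub-namespace `B11b`; extra imports of landed Lib files are fine.

RECIPE.  Blueprint (1.4)(ii).  `Zsq' : Subgroup ↥Z` = range of the squaring hom of the commutative group `↥(center X)`; its index is `card (ker) = card R = 4` (`card_R`; first isomorphism theorem).  `f : X →* ↥Z ⧸ Zsq'`, `f x = mk ⟨x², c.sq x⟩` is a hom by `mul_sq` (`[y,x] ∈ R ≤ Zsq` by `comm_mem_R` and `hR`).  `ker f = Z`: if `x² = z²` with `z ∈ Z` then `(x*z⁻¹)² = 1`, so `x*z⁻¹ ∈ R ≤ Z` (`invol_mem_R`).  Hence `Z.index = card (range f) ≤ 4`.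
-/

set_option autoImplicit false

open Cfsg.Agent.Lib.Helper12.SC3

namespace Cfsg.Agent.Lib.Helper11.SC3B

variable {X : Type*} [Group X] {A : Subgroup (MulAut X)}

/-- if every element of `R` is a square in `Z` then `|X : Z| ≤ 4` -/
theorem Ctx.index_le_four [Finite X] (c : Ctx A)
    (hR : ∀ r ∈ Om1Z X, ∃ z ∈ Subgroup.center X, r = z ^ 2) : (Subgroup.center X).index ≤ 4 := by
  classical
  let instZ : CommGroup (Subgroup.center X) :=
    { (inferInstance : Group (Subgroup.center X)) with mul_comm := fun a b => mul_comm' a b }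
  -- the squaring hom of `Z`
  let sq : Subgroup.center X →* Subgroup.center X := powMonoidHom 2
  have hsq_apply : ∀ z, sq z = z ^ 2 := fun z => rfl
  have hker : Nat.card sq.ker = 4 := by
    rw [← c.card_R]
    apply Nat.card_congr
    refine
      { toFun := fun z => ⟨z.1.1, z.1.2, ?_⟩
        invFun := fun r => ⟨⟨r.1, r.2.1⟩, ?_⟩
        left_inv := fun z => rfl
        right_inv := fun r => rfl }
    · have h1 := z.2
      rw [MonoidHom.mem_ker, hsq_apply] at h1
      exact congrArg Subtype.val h1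
    · rw [MonoidHom.mem_ker, hsq_apply]
      apply Subtype.ext
      exact r.2.2
  have hidx : sq.range.index = 4 := by
    have h1 := Subgroup.card_mul_index sq.ker
    have h2 := Subgroup.card_mul_index sq.range
    rw [Subgroup.index_ker] at h1
    have hpos : 0 < Nat.card sq.range := Nat.card_pos
    have h3 : Nat.card sq.range * sq.range.index = Nat.card sq.range * 4 := by
      rw [h2, ← h1, hker, mul_comm]
    exact Nat.eq_of_mul_eq_mul_left hpos h3
  -- the hom `x ↦ x² mod Z²`
  let f : X →* (Subgroup.center X ⧸ sq.range) :=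
    MonoidHom.mk' (fun x => QuotientGroup.mk ⟨x ^ 2, c.sq x⟩) (by
      intro x y
      obtain ⟨z₀, hz₀, hz⟩ := hR _ (c.comm_mem_R y x)
      have ha : (⟨(x * y) ^ 2, c.sq (x * y)⟩ : Subgroup.center X) =
          ⟨x ^ 2, c.sq x⟩ * ⟨y ^ 2, c.sq y⟩ * ⟨z₀, hz₀⟩ ^ 2 := by
        apply Subtype.ext
        show (x * y) ^ 2 = x ^ 2 * y ^ 2 * z₀ ^ 2
        rw [c.mul_sq, hz]
      show (QuotientGroup.mk ⟨(x * y) ^ 2, c.sq (x * y)⟩ : Subgroup.center X ⧸ sq.range) =
        QuotientGroup.mk ⟨x ^ 2, c.sq x⟩ * QuotientGroup.mk ⟨y ^ 2, c.sq y⟩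
      rw [← QuotientGroup.mk_mul, QuotientGroup.eq, ha, mul_inv_rev, inv_mul_cancel_right, ← inv_pow]
      exact ⟨⟨z₀, hz₀⟩⁻¹, rfl⟩)
  have hkerf : f.ker ≤ Subgroup.center X := by
    intro x hx
    rw [MonoidHom.mem_ker] at hx
    have h1 : (⟨x ^ 2, c.sq x⟩ : Subgroup.center X) ∈ sq.range := (QuotientGroup.eq_one_iff _).mp hx
    obtain ⟨z, hz⟩ := h1
    have hz' : (z : X) ^ 2 = x ^ 2 := by
      have h2 := congrArg Subtype.val hz
      simpa [hsq_apply] using h2
    have hzc := Subgroup.mem_center_iff.mp z.2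
    have hcomm : Commute x (z : X)⁻¹ := (show Commute x (z : X) from hzc x).inv_right
    have hinv : (x * (z : X)⁻¹) ^ 2 = 1 := by
      rw [hcomm.mul_pow, inv_pow, hz', mul_inv_cancel]
    have h2 : x * (z : X)⁻¹ ∈ Subgroup.center X := (c.invol_mem_R hinv).1
    have h3 : x = (x * (z : X)⁻¹) * z := by group
    rw [h3]
    exact Subgroup.mul_mem _ h2 z.2
  calc (Subgroup.center X).index ≤ f.ker.index := Subgroup.index_antitone hkerf
    _ = Nat.card f.range := Subgroup.index_ker f
    _ ≤ Nat.card (Subgroup.center X ⧸ sq.range) :=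
        Nat.card_le_card_of_injective _ Subtype.val_injective
    _ = sq.range.index := rfl
    _ = 4 := hidx

end Cfsg.Agent.Lib.Helper11.SC3B
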