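import Cfsg.Agent.Lib.Helper11.SC3B.G11
import Cfsg.Agent.Lib.Helper27.SC3PC1bGlue

/-!
# S1904 farm, PART PC1b sub-farm (co-architect helper11) — leaf B12

Paper proof: Blueprint (1.4) in `Cfsg/Agent/Lib/Helper12/SC3/Blueprint.lean`.  Context `Ctx A` (`Defs.lean` of this folder):
`X` finite 2-group with the rank bound (`Hyp A`), `x² ∈ Z`, `[x,y] ∈ Z` for all `x y` (from PC1), `X` nonabelian, `Z = center X` noncyclic.
`R = Om1Z X = Ω₁(Z)`.  `FixR A` : every `φ ∈ A` fixes `R` pointwise.  `NoFixR A` : no `r ≠ 1` of `R` is fixed by all of `A`.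
All EARLIER files of this folder (linear import chain Defs, B01, B01b, B02, B03, B04, B05, B06, B07, B08, B09a, G09, B10, B11a, B11b, G11,
B12, B13a, B13b, G13, B14a, B14b, B14c, Main) are black boxes you may use.  Only replace the `sorry`s; names / statements / namespace verbatim;
aux lemmas: fresh names in a sub-namespace `B12`; extra imports of landed Lib files are fine.

RECIPE.  Blueprint (1.4)(iii).  With `hZ` the map `s : X ⧸ Z → R`, `s (xZ) = x²` is well defined (`(x*z)² = x²*z² = x²`), `s (v*w) = s v * s w * [w,v]` (`mul_sq`), the commutator is bimultiplicative (`comm_mul_left/right`), and `s v = 1 → v = 1` (`invol_mem_R`).  `X ⧸ Z` has exponent 2 (`c.sq`), `R` has exponent 2 and order 4 (`card_R`).  Apply the generic Chevalley-Warning core (helper27: `Cfsg/Agent/Lib/Helper27/SC3PC1b.lean`, statement posted on the board; if it is not on main yet, prove against its posted statement) to get `card (X ⧸ Z) ≤ 16`; `Subgroup.index_eq_card`.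
-/

set_option autoImplicit false

open Cfsg.Agent.Lib.Helper12.SC3

namespace Cfsg.Agent.Lib.Helper11.SC3B

variable {X : Type*} [Group X] {A : Subgroup (MulAut X)}

/-- `|X : Z| ≤ 16` (Chevalley-Warning) -/
theorem Ctx.index_le_sixteen [Finite X] (c : Ctx A) (hZ : ∀ z ∈ Subgroup.center X, z ^ 2 = 1) :
    (Subgroup.center X).index ≤ 16 := by
  have h1 := Cfsg.Agent.Lib.Helper27.SC3PC1b.index_center_le_sq c.sq c.cm hZ
    (fun x hx => (c.invol_mem_R hx).1)
  have h2 : Nat.card (Subgroup.center X) = 4 := by
    rw [← c.card_R]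
    apply Nat.card_congr
    exact
      { toFun := fun z => ⟨z.1, z.2, hZ z.1 z.2⟩
        invFun := fun r => ⟨r.1, r.2.1⟩
        left_inv := fun z => rfl
        right_inv := fun r => rfl }
  rw [h2] at h1
  exact h1

end Cfsg.Agent.Lib.Helper11.SC3B
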