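import Cfsg.Agent.Lib.Helper11.SC3B.B12
import Cfsg.Agent.Lib.Helper8.SC3G3

/-!
# S1904 farm, PART PC1b sub-farm (co-architect helper11) — leaf B13a

Paper proof: Blueprint (1.4) in `Cfsg/Agent/Lib/Helper12/SC3/Blueprint.lean`.  Context `Ctx A` (`Defs.lean` of this folder):
`X` finite 2-group with the rank bound (`Hyp A`), `x² ∈ Z`, `[x,y] ∈ Z` for all `x y` (from PC1), `X` nonabelian, `Z = center X` noncyclic.
`R = Om1Z X = Ω₁(Z)`.  `FixR A` : every `φ ∈ A` fixes `R` pointwise.  `NoFixR A` : no `r ≠ 1` of `R` is fixed by all of `A`.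
All EARLIER files of this folder (linear import chain Defs, B01, B01b, B02, B03, B04, B05, B06, B07, B08, B09a, G09, B10, B11a, B11b, G11,
B12, B13a, B13b, G13, B14a, B14b, B14c, Main) are black boxes you may use.  Only replace the `sorry`s; names / statements / namespace verbatim;
aux lemmas: fresh names in a sub-namespace `B13a`; extra imports of landed Lib files are fine.

RECIPE.  Blueprint (1.4)(iv), case 8, first half.  `A` is finite (`c.hyp.odd`).  `A` acts on the 7 nonidentity elements of `X ⧸ Z` (centre is characteristic) with no fixed point (`mem_of_fixed_coset c.hyp (center X) _ c.cm`: a coset fixed by all of `A` is trivial).  Orbit sizes divide `card A`, are odd, `≠ 1`, and sum to 7: one orbit of size 7, so `7 ∣ card A`; Cauchy: `a ∈ A` of order 7.  `a` permutes the 3 nonidentity elements of `R` (`card_R`) with orbits of size 1 or 7: fixes `R` pointwise.  `⟨a⟩` on the 7 cosets: orbits of size 1 or 7; if all are fixed then `a x = x * z_x` with `z_x ∈ Z = R` fixed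 by `a`, `a^7 x = x * z_x^7 = x`, `z_x = 1`, `a = 1`: contradiction; so `⟨a⟩` is transitive on the nonidentity cosets.
-/

set_option autoImplicit false

open Cfsg.Agent.Lib.Helper12.SC3

namespace Cfsg.Agent.Lib.Helper11.SC3B

variable {X : Type*} [Group X] {A : Subgroup (MulAut X)}

namespace B13a

/-- the endomorphism of `X ⧸ Z` induced by an automorphism -/
def qmap (φ : MulAut X) : X ⧸ Subgroup.center X →* X ⧸ Subgroup.center X :=
  QuotientGroup.map _ _ φ.toMonoidHom (fun _ hz => B07.map_mem_center φ hz)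

/-- the action of `MulAut X` on `X ⧸ Z` -/
@[reducible] def qact : MulAction (MulAut X) (X ⧸ Subgroup.center X) where
  smul φ q := qmap φ q
  one_smul q := by
    induction q using QuotientGroup.induction_on with | _ x => rfl
  mul_smul φ ψ q := by
    induction q using QuotientGroup.induction_on with | _ x => rfl

attribute [local instance] qact

theorem smul_mk (φ : MulAut X) (x : X) :
    φ • (QuotientGroup.mk x : X ⧸ Subgroup.center X) = QuotientGroup.mk (φ x) := rfl

theorem smul_one' (φ : MulAut X) : φ • (1 : X ⧸ Subgroup.center X) = 1 := by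
  rw [← QuotientGroup.mk_one, smul_mk, map_one]

theorem subsmul (g : A) (q : X ⧸ Subgroup.center X) : g • q = (g : MulAut X) • q := rfl

/-- no nontrivial coset is fixed by all of `A` -/
theorem exists_moved [Finite X] (c : Ctx A) (q : X ⧸ Subgroup.center X) (hq : q ≠ 1) :
    ∃ g : A, g • q ≠ q := by
  by_contra hcon
  push Not at hcon
  induction q using QuotientGroup.induction_on with | _ x => ?_
  apply hq
  rw [QuotientGroup.eq_one_iff]
  refine Cfsg.Agent.Lib.Helper8.SC3G3.Hyp_fixedMod_mem c.hyp (Subgroup.center X) c.cm x ?_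
  intro φ hφ
  have h := hcon ⟨φ, hφ⟩
  rw [subsmul, smul_mk] at h
  exact QuotientGroup.eq.1 h.symm

theorem orbit_ncard_dvd (q : X ⧸ Subgroup.center X) :
    (MulAction.orbit A q).ncard ∣ Nat.card A := by
  rw [← MulAction.index_stabilizer]
  exact Subgroup.index_dvd_card _

theorem one_notMem_orbit (q : X ⧸ Subgroup.center X) (hq : q ≠ 1) : (1 : X ⧸ Subgroup.center X) ∉ MulAction.orbit A q := by
  intro h
  obtain ⟨g, hg⟩ := MulAction.mem_orbit_iff.1 h
  apply hq
  have : g⁻¹ • (g • q) = g⁻¹ • (1 : X ⧸ Subgroup.center X) := by rw [hg]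
  rw [inv_smul_smul, subsmul, smul_one'] at this
  exact this

theorem orbit_ncard_ge [Finite X] (c : Ctx A) (q : X ⧸ Subgroup.center X) (hq : q ≠ 1) :
    3 ≤ (MulAction.orbit A q).ncard ∧ (MulAction.orbit A q).ncard % 2 = 1 := by
  have hodd : Odd (MulAction.orbit A q).ncard := Odd.of_dvd_nat c.hyp.odd (orbit_ncard_dvd q)
  have h1 : (MulAction.orbit A q).ncard ≠ 1 := by
    intro h
    obtain ⟨q', hq'⟩ := Set.ncard_eq_one.1 h
    have hqq : q ∈ MulAction.orbit A q := MulAction.mem_orbit_self q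
    rw [hq'] at hqq
    have hqq' : q = q' := hqq
    obtain ⟨g, hg⟩ := exists_moved c q hq
    apply hg
    have : g • q ∈ MulAction.orbit A q := MulAction.mem_orbit q g
    rw [hq', ← hqq'] at this
    exact this
  have h2 := Nat.odd_iff.1 hodd
  refine ⟨?_, h2⟩
  omega

/-- one counting step -/
theorem step [Finite X] (_c : Ctx A) (T : Set (X ⧸ Subgroup.center X))
    (hTinv : ∀ g : A, ∀ q ∈ T, g • q ∈ T) (hlt : T.ncard < ({1}ᶜ : Set (X ⧸ Subgroup.center X)).ncard) :
    ∃ q : X ⧸ Subgroup.center X, q ≠ 1 ∧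
      (T ∪ MulAction.orbit A q).ncard = T.ncard + (MulAction.orbit A q).ncard ∧
      (∀ g : A, ∀ q' ∈ T ∪ MulAction.orbit A q, g • q' ∈ T ∪ MulAction.orbit A q) := by
  obtain ⟨q, hq1, hqT⟩ := Set.exists_mem_notMem_of_ncard_lt_ncard hlt
  have hq : q ≠ 1 := hq1
  refine ⟨q, hq, ?_, ?_⟩
  · have hdisj : Disjoint T (MulAction.orbit A q) := by
      rw [Set.disjoint_left]
      intro q' hq'T hq'O
      obtain ⟨g, hg⟩ := MulAction.mem_orbit_iff.1 hq'O
      apply hqT
      have := hTinv g⁻¹ q' hq'T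
      rw [← hg, inv_smul_smul] at this
      exact this
    exact Set.ncard_union_eq hdisj (Set.toFinite _) (Set.toFinite _)
  · rintro g q' (hq' | hq')
    · exact Or.inl (hTinv g q' hq')
    · right
      obtain ⟨h, hh⟩ := MulAction.mem_orbit_iff.1 hq'
      rw [← hh, ← mul_smul]
      exact MulAction.mem_orbit q (g * h)

theorem seven_dvd [Finite X] (c : Ctx A) (h8 : (Subgroup.center X).index = 8) : 7 ∣ Nat.card A := by
  have hQ : Nat.card (X ⧸ Subgroup.center X) = 8 := by rw [← Subgroup.index_eq_card]; exact h8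
  have hS : ({1}ᶜ : Set (X ⧸ Subgroup.center X)).ncard = 7 := by
    rw [Set.ncard_compl, hQ, Set.ncard_singleton]
  have hsub : ∀ T : Set (X ⧸ Subgroup.center X), T ⊆ {1}ᶜ → T.ncard ≤ 7 := by
    intro T hT
    rw [← hS]
    exact Set.ncard_le_ncard hT
  have horb : ∀ q : X ⧸ Subgroup.center X, q ≠ 1 → MulAction.orbit A q ⊆ {1}ᶜ := by
    intro q hq q' hq' h1
    rw [Set.mem_singleton_iff] at h1
    rw [h1] at hq'
    exact one_notMem_orbit q hq hq'
  obtain ⟨q₀, hq₀, hc₀, hinv₀⟩ := step c ∅ (fun _ _ h => absurd h (Set.notMem_empty _))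
    (by rw [Set.ncard_empty, hS]; norm_num)
  rw [Set.ncard_empty, zero_add] at hc₀
  obtain ⟨h3₀, hodd₀⟩ := orbit_ncard_ge c q₀ hq₀
  have hle₀ : (∅ ∪ MulAction.orbit A q₀ : Set (X ⧸ Subgroup.center X)).ncard ≤ 7 :=
    hsub _ (by rw [Set.empty_union]; exact horb q₀ hq₀)
  by_cases h7 : (MulAction.orbit A q₀).ncard = 7
  · rw [← h7]; exact orbit_ncard_dvd q₀
  exfalso
  obtain ⟨q₁, hq₁, hc₁, hinv₁⟩ := step c _ hinv₀ (by rw [hS]; omega)
  obtain ⟨h3₁, hodd₁⟩ := orbit_ncard_ge c q₁ hq₁
  have hle₁ : ((∅ ∪ MulAction.orbit A q₀) ∪ MulAction.orbit A q₁ : Set (X ⧸ Subgroup.center X)).ncard ≤ 7 :=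
    hsub _ (Set.union_subset (by rw [Set.empty_union]; exact horb q₀ hq₀) (horb q₁ hq₁))
  obtain ⟨q₂, hq₂, hc₂, -⟩ := step c _ hinv₁ (by rw [hS]; omega)
  obtain ⟨h3₂, -⟩ := orbit_ncard_ge c q₂ hq₂
  have hle₂ : (((∅ ∪ MulAction.orbit A q₀) ∪ MulAction.orbit A q₁) ∪ MulAction.orbit A q₂ :
      Set (X ⧸ Subgroup.center X)).ncard ≤ 7 :=
    hsub _ (Set.union_subset (Set.union_subset (by rw [Set.empty_union]; exact horb q₀ hq₀)
      (horb q₁ hq₁)) (horb q₂ hq₂))
  omega

/-- an automorphism of order 7 fixes the four-group `R` pointwise -/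
theorem fix_R_of_order_seven (hR4 : Nat.card (Om1Z X) = 4) (a : MulAut X) (ha7 : a ^ 7 = 1) :
    ∀ r ∈ Om1Z X, a r = r := by
  classical
  have : Finite (Om1Z X) := Nat.finite_of_card_ne_zero (by rw [hR4]; norm_num)
  let σ : Equiv.Perm (Om1Z X) :=
    { toFun := fun r => ⟨a r, B07.map_mem_R a r.2⟩
      invFun := fun r => ⟨a⁻¹ r, B07.map_mem_R a⁻¹ r.2⟩
      left_inv := fun r => by ext; simp
      right_inv := fun r => by ext; simp }
  have hσ : ∀ (k : ℕ) (r : Om1Z X), ((σ ^ k) r : X) = (a ^ k) (r : X) := by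
    intro k
    induction k with
    | zero => intro r; simp
    | succ k ih =>
      intro r
      rw [pow_succ, Equiv.Perm.mul_apply, ih, pow_succ, MulAut.mul_apply]
      rfl
  have hσ7 : σ ^ 7 = 1 := by
    ext r
    rw [hσ 7 r, ha7]
    rfl
  have h1 : orderOf σ ∣ 7 := orderOf_dvd_of_pow_eq_one hσ7
  have h2 : orderOf σ ∣ Nat.card (Equiv.Perm (Om1Z X)) := orderOf_dvd_natCard σ
  rw [Nat.card_perm, hR4] at h2
  have h3 : orderOf σ ∣ Nat.gcd 7 (Nat.factorial 4) := Nat.dvd_gcd h1 h2
  have h4 : Nat.gcd 7 (Nat.factorial 4) = 1 := by decide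
  rw [h4, Nat.dvd_one, orderOf_eq_one_iff] at h3
  intro r hr
  have := congrArg (fun τ : Equiv.Perm (Om1Z X) => ((τ ⟨r, hr⟩ : Om1Z X) : X)) h3
  exact this

end B13a

attribute [local instance] B13a.qact in
open B13a in
/-- if `|X : Z| = 8` some `a ∈ A` fixes `R` pointwise and is transitive on the nonidentity cosets of `Z` -/
theorem Ctx.exists_transitive [Finite X] (c : Ctx A) (hZ : ∀ z ∈ Subgroup.center X, z ^ 2 = 1)
    (h8 : (Subgroup.center X).index = 8) :
    ∃ a ∈ A, (∀ r ∈ Om1Z X, a r = r) ∧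
      ∀ x y : X, x ∉ Subgroup.center X → y ∉ Subgroup.center X →
        ∃ k : ℕ, y⁻¹ * (a ^ k) x ∈ Subgroup.center X := by
  classical
  have h7 := seven_dvd c h8
  have : Fact (Nat.Prime 7) := ⟨by norm_num⟩
  obtain ⟨g, hg⟩ := exists_prime_orderOf_dvd_card' (G := A) 7 h7
  have hao : orderOf (g : MulAut X) = 7 := by rw [Subgroup.orderOf_coe]; exact hg
  have ha7 : (g : MulAut X) ^ 7 = 1 := by rw [← hao]; exact pow_orderOf_eq_one _
  have hfixR := fix_R_of_order_seven c.card_R (g : MulAut X) ha7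
  refine ⟨g, g.2, hfixR, ?_⟩
  set a : MulAut X := (g : MulAut X) with ha
  have hQ : Nat.card (X ⧸ Subgroup.center X) = 8 := by rw [← Subgroup.index_eq_card]; exact h8
  have : Fintype (X ⧸ Subgroup.center X) := Fintype.ofFinite _
  have hQ' : Fintype.card (X ⧸ Subgroup.center X) = 8 := by rw [← Nat.card_eq_fintype_card]; exact hQ
  let τ : Equiv.Perm (X ⧸ Subgroup.center X) := MulAction.toPermHom (MulAut X) _ a
  have hτk : ∀ (k : ℕ) (x : X), (τ ^ k) (QuotientGroup.mk x) = QuotientGroup.mk ((a ^ k) x) := by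
    intro k x
    have : τ ^ k = MulAction.toPermHom (MulAut X) (X ⧸ Subgroup.center X) (a ^ k) := (map_pow _ a k).symm
    rw [this]
    rfl
  have hτ7 : τ ^ 7 = 1 := by
    have : τ ^ 7 = MulAction.toPermHom (MulAut X) (X ⧸ Subgroup.center X) (a ^ 7) := (map_pow _ a 7).symm
    rw [this, ha7, map_one]
  have hτ1 : τ ≠ 1 := by
    intro h1
    have hfixall : ∀ x : X, a x = x := by
      intro x
      have hx : x⁻¹ * a x ∈ Subgroup.center X := by
        have h2 : τ (QuotientGroup.mk x) = QuotientGroup.mk x := by rw [h1]; rfl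
        have h3 := hτk 1 x
        rw [pow_one, pow_one, h2] at h3
        exact QuotientGroup.eq.1 h3
      have hz2 : (x⁻¹ * a x) ^ 2 = 1 := hZ _ hx
      have hzR : x⁻¹ * a x ∈ Om1Z X := ⟨hx, hz2⟩
      have haz : a (x⁻¹ * a x) = x⁻¹ * a x := hfixR _ hzR
      have hpow : ∀ k : ℕ, (a ^ k) x = x * (x⁻¹ * a x) ^ k := by
        intro k
        induction k with
        | zero => simp
        | succ k ih =>
          have e : a x = x * (x⁻¹ * a x) := by group
          rw [pow_succ, MulAut.mul_apply]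
          conv_lhs => rw [e]
          rw [map_mul, ih, B07.pow_fix haz k, pow_succ, mul_assoc]
      have h7x := hpow 7
      rw [ha7] at h7x
      have hz7 : (x⁻¹ * a x) ^ 7 = 1 := by
        have : x * 1 = x * (x⁻¹ * a x) ^ 7 := by rw [mul_one]; exact h7x
        exact (mul_left_cancel this).symm
      have hz1 : x⁻¹ * a x = 1 := by
        have e7 : (x⁻¹ * a x) ^ 7 = ((x⁻¹ * a x) ^ 2) ^ 3 * (x⁻¹ * a x) := by
          rw [← pow_mul, ← pow_succ]
        rw [e7, hz2, one_pow, one_mul] at hz7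
        exact hz7
      have : a x = x * (x⁻¹ * a x) := by group
      rw [this, hz1, mul_one]
    have : a = 1 := by
      ext x; exact hfixall x
    rw [this, orderOf_one] at hao
    norm_num at hao
  have hord : orderOf τ = 7 := by
    have h1 : orderOf τ ∣ 7 := orderOf_dvd_of_pow_eq_one hτ7
    rcases (Nat.dvd_prime (by norm_num : Nat.Prime 7)).1 h1 with h | h
    · exact absurd (orderOf_eq_one_iff.1 h) hτ1
    · exact h
  have hcyc : τ.IsCycle :=
    Equiv.Perm.isCycle_of_prime_order' (by rw [hord]; norm_num) (by rw [hQ', hord]; norm_num)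
  have hsupp : τ.support.card = 7 := by rw [← hcyc.orderOf, hord]
  have hτone : τ 1 = 1 := smul_one' a
  have hsuppeq : τ.support = Finset.univ.erase 1 := by
    apply Finset.eq_of_subset_of_card_le
    · intro q hq
      rw [Finset.mem_erase]
      refine ⟨?_, Finset.mem_univ _⟩
      rintro rfl
      exact (Equiv.Perm.mem_support.1 hq) hτone
    · rw [Finset.card_erase_of_mem (Finset.mem_univ _), Finset.card_univ, hQ', hsupp]
  have hmoved : ∀ x : X, x ∉ Subgroup.center X → τ (QuotientGroup.mk x) ≠ QuotientGroup.mk x := by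
    intro x hx
    rw [← Equiv.Perm.mem_support, hsuppeq, Finset.mem_erase]
    refine ⟨?_, Finset.mem_univ _⟩
    intro h
    exact hx ((QuotientGroup.eq_one_iff x).1 h)
  intro x y hx hy
  obtain ⟨k, hk⟩ := hcyc.exists_pow_eq (hmoved x hx) (hmoved y hy)
  refine ⟨k, ?_⟩
  rw [hτk] at hk
  exact QuotientGroup.eq.1 hk.symm

end Cfsg.Agent.Lib.Helper11.SC3B
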