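import Cfsg.Agent.Lib.Helper11.SC3B.B13a

/-!
# S1904 farm, PART PC1b sub-farm (co-architect helper11) — leaf B13b

Paper proof: Blueprint (1.4) in `Cfsg/Agent/Lib/Helper12/SC3/Blueprint.lean`.  Context `Ctx A` (`Defs.lean` of this folder):
`X` finite 2-group with the rank bound (`Hyp A`), `x² ∈ Z`, `[x,y] ∈ Z` for all `x y` (from PC1), `X` nonabelian, `Z = center X` noncyclic.
`R = Om1Z X = Ω₁(Z)`.  `FixR A` : every `φ ∈ A` fixes `R` pointwise.  `NoFixR A` : no `r ≠ 1` of `R` is fixed by all of `A`.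
All EARLIER files of this folder (linear import chain Defs, B01, B01b, B02, B03, B04, B05, B06, B07, B08, B09a, G09, B10, B11a, B11b, G11,
B12, B13a, B13b, G13, B14a, B14b, B14c, Main) are black boxes you may use.  Only replace the `sorry`s; names / statements / namespace verbatim;
aux lemmas: fresh names in a sub-namespace `B13b`; extra imports of landed Lib files are fine.

RECIPE.  Blueprint (1.4)(iv), case 8, second half.  For `x, y ∉ Z`: `y = (a^k x) * z`, so `y² = (a^k x)² * z² = a^k (x²) = x²` (`hZ`, `x² ∈ Z = R` fixed by `a`).  So `x² = r` is constant on `X ∖ Z`, `r ≠ 1` (`invol_mem_R`).  If `x, y, x*y ∉ Z` then `mul_sq` gives `y*x*y⁻¹*x⁻¹ = r` (`r² = 1`).  Index 8 gives `x, y, t` independent mod `Z` (`x ∉ Z`, `y ∉ Z ⊔ zpowers x` of index 4, `t ∉ Z ⊔ zpowers x ⊔ zpowers y` of index 2).  Then `[y*t, x] = [y,x]*[t,x] = r*r = 1` (`comm_mul_left`) but also `= r`: contradiction.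
-/

set_option autoImplicit false

open Cfsg.Agent.Lib.Helper12.SC3

namespace Cfsg.Agent.Lib.Helper11.SC3B

variable {X : Type*} [Group X] {A : Subgroup (MulAut X)}

namespace B13b

theorem exists_notMem {Q : Type*} [Finite Q] (s : Finset Q) (h : s.card < Nat.card Q) : ∃ q, q ∉ s := by
  classical
  by_contra hne
  push Not at hne
  have : Fintype Q := Fintype.ofFinite Q
  have hu : s = Finset.univ := Finset.eq_univ_iff_forall.mpr hne
  rw [hu, Finset.card_univ, Nat.card_eq_fintype_card] at h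
  exact lt_irrefl _ h

end B13b

/-- such an `a` cannot exist -/
theorem Ctx.false_of_transitive [Finite X] (c : Ctx A) (hZ : ∀ z ∈ Subgroup.center X, z ^ 2 = 1)
    (h8 : (Subgroup.center X).index = 8) (a : MulAut X) (ha : ∀ r ∈ Om1Z X, a r = r)
    (htr : ∀ x y : X, x ∉ Subgroup.center X → y ∉ Subgroup.center X →
      ∃ k : ℕ, y⁻¹ * (a ^ k) x ∈ Subgroup.center X) : False := by
  classical
  -- `a ^ k` fixes `Z` pointwise
  have hak : ∀ (k : ℕ) (z : X), z ∈ Subgroup.center X → (a ^ k) z = z := by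
    intro k
    induction k with
    | zero => intro z _; simp
    | succ n ih =>
      intro z hz
      rw [pow_succ, MulAut.mul_apply, ha z ⟨hz, hZ z hz⟩, ih z hz]
  -- squares are constant off `Z`
  have hsq : ∀ x y : X, x ∉ Subgroup.center X → y ∉ Subgroup.center X → y ^ 2 = x ^ 2 := by
    intro x y hx hy
    obtain ⟨k, hk⟩ := htr x y hx hy
    have h1 : (a ^ k) x = y * (y⁻¹ * (a ^ k) x) := by group
    have h2 : ((a ^ k) x) ^ 2 = x ^ 2 := by
      rw [← map_pow]; exact hak k _ (c.sq x)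
    have hwc : ∀ g, g * (y⁻¹ * (a ^ k) x) = (y⁻¹ * (a ^ k) x) * g :=
      fun g => Subgroup.mem_center_iff.mp hk g
    have hw2 : (y⁻¹ * (a ^ k) x) * (y⁻¹ * (a ^ k) x) = 1 := by
      rw [← pow_two]; exact hZ _ hk
    have h3 : (y * (y⁻¹ * (a ^ k) x)) ^ 2 = y ^ 2 := by
      rw [pow_two, pow_two]
      calc y * (y⁻¹ * (a ^ k) x) * (y * (y⁻¹ * (a ^ k) x))
          = y * ((y⁻¹ * (a ^ k) x) * y) * (y⁻¹ * (a ^ k) x) := by simp only [mul_assoc]
        _ = y * (y * (y⁻¹ * (a ^ k) x)) * (y⁻¹ * (a ^ k) x) := by rw [← hwc y]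
        _ = y * y * ((y⁻¹ * (a ^ k) x) * (y⁻¹ * (a ^ k) x)) := by simp only [mul_assoc]
        _ = y * y := by rw [hw2, mul_one]
    rw [← h3, ← h1, h2]
  -- commutators off `Z`
  have hcomm : ∀ u v : X, u ∉ Subgroup.center X → v ∉ Subgroup.center X → u * v ∉ Subgroup.center X →
      v * u * v⁻¹ * u⁻¹ = u ^ 2 := by
    intro u v hu hv huv
    have h1 := c.mul_sq u v
    rw [hsq u (u * v) hu huv, hsq u v hu hv] at h1
    have h2 : (u ^ 2) ^ 2 = 1 := hZ _ (c.sq u)
    rw [← pow_two (u ^ 2), h2, one_mul] at h1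
    exact h1.symm
  -- three independent elements
  have hQ : Nat.card (X ⧸ Subgroup.center X) = 8 := by rw [← h8]; rfl
  have hQsq : ∀ q r : X ⧸ Subgroup.center X, q * r = 1 → r = q := by
    intro q r hqr
    have hq : q * q = 1 := by
      induction q using QuotientGroup.induction_on with
      | H x =>
        rw [← QuotientGroup.mk_mul, QuotientGroup.eq_one_iff, ← pow_two]; exact c.sq x
    exact mul_left_cancel (hqr.trans hq.symm)
  obtain ⟨qx, hx⟩ := B13b.exists_notMem ({1} : Finset (X ⧸ Subgroup.center X)) (by rw [hQ]; simp)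
  obtain ⟨qy, hy⟩ := B13b.exists_notMem ({1, qx} : Finset (X ⧸ Subgroup.center X))
    (by rw [hQ]; exact lt_of_le_of_lt Finset.card_le_two (by norm_num))
  obtain ⟨qt, ht⟩ := B13b.exists_notMem ({1, qx, qy, qx * qy} : Finset (X ⧸ Subgroup.center X))
    (by rw [hQ]; exact lt_of_le_of_lt Finset.card_le_four (by norm_num))
  simp only [Finset.mem_insert, Finset.mem_singleton, not_or] at hx hy ht
  obtain ⟨x, rfl⟩ := QuotientGroup.mk_surjective qx
  obtain ⟨y, rfl⟩ := QuotientGroup.mk_surjective qy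
  obtain ⟨t, rfl⟩ := QuotientGroup.mk_surjective qt
  have hxZ : x ∉ Subgroup.center X := fun h => hx ((QuotientGroup.eq_one_iff x).mpr h)
  have hyZ : y ∉ Subgroup.center X := fun h => hy.1 ((QuotientGroup.eq_one_iff y).mpr h)
  have htZ : t ∉ Subgroup.center X := fun h => ht.1 ((QuotientGroup.eq_one_iff t).mpr h)
  have hxyZ : x * y ∉ Subgroup.center X := by
    intro h
    have h1 := (QuotientGroup.eq_one_iff (x * y)).mpr h
    rw [QuotientGroup.mk_mul] at h1
    exact hy.2 (hQsq _ _ h1)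
  have hxtZ : x * t ∉ Subgroup.center X := by
    intro h
    have h1 := (QuotientGroup.eq_one_iff (x * t)).mpr h
    rw [QuotientGroup.mk_mul] at h1
    exact ht.2.1 (hQsq _ _ h1)
  have hytZ : y * t ∉ Subgroup.center X := by
    intro h
    have h1 := (QuotientGroup.eq_one_iff (y * t)).mpr h
    rw [QuotientGroup.mk_mul] at h1
    exact ht.2.2.1 (hQsq _ _ h1)
  have hxytZ : x * (y * t) ∉ Subgroup.center X := by
    intro h
    have h1 := (QuotientGroup.eq_one_iff (x * (y * t))).mpr h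
    rw [← mul_assoc, QuotientGroup.mk_mul, QuotientGroup.mk_mul] at h1
    exact ht.2.2.2 (hQsq _ _ h1)
  have e1 := hcomm x y hxZ hyZ hxyZ
  have e2 := hcomm x t hxZ htZ hxtZ
  have e3 := hcomm x (y * t) hxZ hytZ hxytZ
  rw [c.comm_mul_left, e1, e2, ← pow_two, hZ _ (c.sq x)] at e3
  -- `x² = 1`, so `x ∈ R ≤ Z`
  exact hxZ (c.invol_mem_R e3.symm).1

end Cfsg.Agent.Lib.Helper11.SC3B
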