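import Cfsg.Agent.Lib.Helper11.SC3B.G13
import Cfsg.Agent.Lib.Helper17.Frattini
import Cfsg.Agent.Lib.Helper1.Frattini

/-!
# S1904 farm, PART PC1b sub-farm (co-architect helper11) — leaf B14a

Paper proof: Blueprint (1.4) in `Cfsg/Agent/Lib/Helper12/SC3/Blueprint.lean`.  Context `Ctx A` (`Defs.lean` of this folder):
`X` finite 2-group with the rank bound (`Hyp A`), `x² ∈ Z`, `[x,y] ∈ Z` for all `x y` (from PC1), `X` nonabelian, `Z = center X` noncyclic.
`R = Om1Z X = Ω₁(Z)`.  `FixR A` : every `φ ∈ A` fixes `R` pointwise.  `NoFixR A` : no `r ≠ 1` of `R` is fixed by all of `A`.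
All EARLIER files of this folder (linear import chain Defs, B01, B01b, B02, B03, B04, B05, B06, B07, B08, B09a, G09, B10, B11a, B11b, G11,
B12, B13a, B13b, G13, B14a, B14b, B14c, Main) are black boxes you may use.  Only replace the `sorry`s; names / statements / namespace verbatim;
aux lemmas: fresh names in a sub-namespace `B14a`; extra imports of landed Lib files are fine.

RECIPE.  `IsSpecial 2 X = IsPGroup 2 X ∧ frattini X = center X ∧ commutator X = center X`.  `center X = Om1Z X` (`hZ`), `commutator X = Om1Z X` (`hcomm`).  `frattini X ≤ center X`: `Cfsg.Agent.Lib.Helper1.frattini_le_of_commutator_le_of_pow_mem (p := 2) (center X) _ c.sq` (file `Lib/Helper1/Frattini.lean`); `center X = commutator X ≤ frattini X`: `Cfsg.Agent.Lib.Helper1.IsPGroup.commutator_le_frattini c.hyp.two`.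
-/

set_option autoImplicit false

open Cfsg.Agent.Lib.Helper12.SC3

namespace Cfsg.Agent.Lib.Helper11.SC3B

variable {X : Type*} [Group X] {A : Subgroup (MulAut X)}

/-- `X` is special -/
theorem Ctx.isSpecial [Finite X] (c : Ctx A) (hZ : ∀ z ∈ Subgroup.center X, z ^ 2 = 1)
    (hcomm : commutator X = Om1Z X) : Cfsg.IsSpecial 2 X := by
  have : Fact (Nat.Prime 2) := ⟨Nat.prime_two⟩
  have hOm : Om1Z X = Subgroup.center X :=
    le_antisymm (fun g hg => hg.1) (fun z hz => ⟨hz, hZ z hz⟩)
  have hcZ : commutator X = Subgroup.center X := hcomm.trans hOm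
  refine ⟨c.hyp.two, le_antisymm ?_ ?_, hcZ⟩
  · exact Cfsg.Agent.Lib.Helper17.frattini_le_of_pow_comm (p := 2) (Subgroup.center X) c.sq
      (fun x y => by rw [commutatorElement_def]; exact c.cm x y)
  · rw [← hcZ]
    exact Cfsg.Agent.Lib.Helper1.IsPGroup.commutator_le_frattini c.hyp.two

end Cfsg.Agent.Lib.Helper11.SC3B
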