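import Cfsg.Agent.Lib.Helper11.SC3B.B14a

/-!
# S1904 farm, PART PC1b sub-farm (co-architect helper11) — leaf B14b

Paper proof: Blueprint (1.4) in `Cfsg/Agent/Lib/Helper12/SC3/Blueprint.lean`.  Context `Ctx A` (`Defs.lean` of this folder):
`X` finite 2-group with the rank bound (`Hyp A`), `x² ∈ Z`, `[x,y] ∈ Z` for all `x y` (from PC1), `X` nonabelian, `Z = center X` noncyclic.
`R = Om1Z X = Ω₁(Z)`.  `FixR A` : every `φ ∈ A` fixes `R` pointwise.  `NoFixR A` : no `r ≠ 1` of `R` is fixed by all of `A`.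
All EARLIER files of this folder (linear import chain Defs, B01, B01b, B02, B03, B04, B05, B06, B07, B08, B09a, G09, B10, B11a, B11b, G11,
B12, B13a, B13b, G13, B14a, B14b, B14c, Main) are black boxes you may use.  Only replace the `sorry`s; names / statements / namespace verbatim;
aux lemmas: fresh names in a sub-namespace `B14b`; extra imports of landed Lib files are fine.

RECIPE.  `{x // orderOf x = 2}` is in bijection with `{r : Om1Z X // r ≠ 1}`: `orderOf x = 2 ↔ x² = 1 ∧ x ≠ 1` (`orderOf_eq_prime_iff`), and `x² = 1 → x ∈ R` (`invol_mem_R`).  `card R = 4` (`card_R`), so 3 nonidentity elements.  Second statement: `invol_mem_R` and `Om1Z ≤ center`.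
-/

set_option autoImplicit false

open Cfsg.Agent.Lib.Helper12.SC3

namespace Cfsg.Agent.Lib.Helper11.SC3B

variable {X : Type*} [Group X] {A : Subgroup (MulAut X)}

/-- exactly three involutions, all central -/
theorem Ctx.card_involutions [Finite X] (c : Ctx A) : Nat.card {x : X // orderOf x = 2} = 3 := by
  classical
  have h2 : ∀ x : X, orderOf x = 2 ↔ (x ∈ Om1Z X ∧ x ≠ 1) := by
    intro x
    constructor
    · intro hx
      have hx2 : x ^ 2 = 1 := by rw [← hx]; exact pow_orderOf_eq_one x
      refine ⟨c.invol_mem_R hx2, ?_⟩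
      intro h1
      rw [h1, orderOf_one] at hx
      omega
    · rintro ⟨hx, hne⟩
      exact orderOf_eq_prime hx.2 hne
  have e : {x : X // orderOf x = 2} ≃ {r : ↥(Om1Z X) // r ≠ 1} :=
    { toFun := fun x => ⟨⟨x.1, ((h2 x.1).1 x.2).1⟩, fun h => ((h2 x.1).1 x.2).2 (congrArg Subtype.val h)⟩
      invFun := fun r => ⟨r.1.1, (h2 r.1.1).2 ⟨r.1.2, fun h => r.2 (Subtype.ext h)⟩⟩
      left_inv := fun x => rfl
      right_inv := fun r => rfl }
  rw [Nat.card_congr e]
  haveI : Fintype ↥(Om1Z X) := Fintype.ofFinite _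
  have hc : Fintype.card ↥(Om1Z X) = 4 := by rw [← Nat.card_eq_fintype_card]; exact c.card_R
  rw [Nat.card_eq_fintype_card, Fintype.card_subtype_compl, hc]
  simp

theorem Ctx.invol_central [Finite X] (c : Ctx A) (x : X) (hx : orderOf x = 2) : x ∈ Subgroup.center X := by
  have hx2 : x ^ 2 = 1 := by rw [← hx]; exact pow_orderOf_eq_one x
  exact (c.invol_mem_R hx2).1

end Cfsg.Agent.Lib.Helper11.SC3B
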