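import Cfsg.Agent.Lib.Helper11.SC3B.B14b

/-!
# S1904 farm, PART PC1b sub-farm (co-architect helper11) — leaf B14c

Paper proof: Blueprint (1.4) in `Cfsg/Agent/Lib/Helper12/SC3/Blueprint.lean`.  Context `Ctx A` (`Defs.lean` of this folder):
`X` finite 2-group with the rank bound (`Hyp A`), `x² ∈ Z`, `[x,y] ∈ Z` for all `x y` (from PC1), `X` nonabelian, `Z = center X` noncyclic.
`R = Om1Z X = Ω₁(Z)`.  `FixR A` : every `φ ∈ A` fixes `R` pointwise.  `NoFixR A` : no `r ≠ 1` of `R` is fixed by all of `A`.
All EARLIER files of this folder (linear import chain Defs, B01, B01b, B02, B03, B04, B05, B06, B07, B08, B09a, G09, B10, B11a, B11b, G11,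
B12, B13a, B13b, G13, B14a, B14b, B14c, Main) are black boxes you may use.  Only replace the `sorry`s; names / statements / namespace verbatim;
aux lemmas: fresh names in a sub-namespace `B14c`; extra imports of landed Lib files are fine.

RECIPE.  `index ∣ card X = 2^n` (`Subgroup.index_dvd_card`, `IsPGroup.iff_card`/`c.hyp.two`), `Nat.dvd_prime_pow`.  `4 ≤ index`: if the index is 1 or 2 then `X ⧸ Z` is cyclic and `X` is commutative (`commutative_of_cyclic_center_quotient` / `Group.commGroupOfCenterEqTop`), against `c.na`.  `card_center`: `center X = Om1Z X` as subgroups (`hZ`), `card_R`.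
-/

set_option autoImplicit false

open Cfsg.Agent.Lib.Helper12.SC3

namespace Cfsg.Agent.Lib.Helper11.SC3B

variable {X : Type*} [Group X] {A : Subgroup (MulAut X)}

/-- the index of the centre is a power of 2, at least 4 -/
theorem Ctx.index_eq_pow [Finite X] (c : Ctx A) : ∃ k : ℕ, (Subgroup.center X).index = 2 ^ k := by
  obtain ⟨m, hm⟩ := c.hyp.two.exists_card_eq
  have hdvd : (Subgroup.center X).index ∣ 2 ^ m := by
    rw [← hm]
    exact Subgroup.index_dvd_card _
  obtain ⟨k, _, hk⟩ := (Nat.dvd_prime_pow Nat.prime_two).mp hdvd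
  exact ⟨k, hk⟩

theorem Ctx.four_le_index [Finite X] (c : Ctx A) : 4 ≤ (Subgroup.center X).index := by
  obtain ⟨k, hk⟩ := c.index_eq_pow
  rw [hk]
  have hk2 : 2 ≤ k := by
    by_contra hlt
    rw [not_le] at hlt
    apply c.na
    have hk01 : k = 0 ∨ k = 1 := by omega
    rcases hk01 with rfl | rfl
    · -- index one: the centre is everything
      rw [pow_zero, Subgroup.index_eq_one] at hk
      refine ⟨⟨fun a b => ?_⟩⟩
      have ha : a ∈ Subgroup.center X := by rw [hk]; exact Subgroup.mem_top a
      exact (Subgroup.mem_center_iff.mp ha b).symm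
    · -- index two: cyclic central quotient
      rw [pow_one] at hk
      have hcard : Nat.card (X ⧸ Subgroup.center X) = 2 := by
        rw [← Subgroup.index_eq_card]
        exact hk
      have : Fact (Nat.Prime 2) := ⟨Nat.prime_two⟩
      have : IsCyclic (X ⧸ Subgroup.center X) := isCyclic_of_prime_card hcard
      exact MonoidHom.isMulCommutative_of_isCyclic_of_ker_le_center
        (QuotientGroup.mk' (Subgroup.center X)) (by rw [QuotientGroup.ker_mk'])
  calc 4 = 2 ^ 2 := by norm_num
    _ ≤ 2 ^ k := Nat.pow_le_pow_right (by norm_num) hk2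

theorem Ctx.card_center [Finite X] (c : Ctx A) (hZ : ∀ z ∈ Subgroup.center X, z ^ 2 = 1) :
    Nat.card (Subgroup.center X) = 4 := by
  have hZR : Subgroup.center X = Om1Z X := by
    ext z
    rw [mem_Om1Z]
    exact ⟨fun hz => ⟨hz, hZ z hz⟩, fun hz => hz.1⟩
  rw [hZR]
  exact c.card_R

end Cfsg.Agent.Lib.Helper11.SC3B
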