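import Cfsg.Agent.Lib.Helper12.SC3.PC1

/-!
# S1904 farm, PART PC1b sub-farm (co-architect helper11): definitions

`Ctx A`: the standing context of Blueprint (1.4) after PC1 (`class_two`).  `FixR A`, `NoFixR A`: the two possible
behaviours of `A` on `R = Om1Z X`.
-/

set_option autoImplicit false

open Cfsg.Agent.Lib.Helper12.SC3

namespace Cfsg.Agent.Lib.Helper11.SC3B

variable {X : Type*} [Group X]

/-- the context of Blueprint (1.4) -/
structure Ctx (A : Subgroup (MulAut X)) : Prop where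
  hyp : Hyp A
  sq : ∀ x : X, x ^ 2 ∈ Subgroup.center X
  cm : ∀ x y : X, x * y * x⁻¹ * y⁻¹ ∈ Subgroup.center X
  na : ¬ IsMulCommutative X
  ncyc : ¬ IsCyclic (Subgroup.center X)

/-- every `φ ∈ A` fixes `R = Ω₁(Z)` pointwise -/
def FixR (A : Subgroup (MulAut X)) : Prop := ∀ φ ∈ A, ∀ r ∈ Om1Z X, φ r = r

/-- no nonidentity element of `R = Ω₁(Z)` is fixed by all of `A` -/
def NoFixR (A : Subgroup (MulAut X)) : Prop := ∀ r ∈ Om1Z X, r ≠ 1 → ∃ φ ∈ A, φ r ≠ r

theorem Ctx.of_classTwo [Finite X] {A : Subgroup (MulAut X)} (h : Hyp A) (hna : ¬ IsMulCommutative X)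
    (hc : AllCentral A) (hncyc : ¬ IsCyclic (Subgroup.center X)) : Ctx A :=
  ⟨h, (class_two h hc).1, (class_two h hc).2, hna, hncyc⟩

end Cfsg.Agent.Lib.Helper11.SC3B
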