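import Cfsg.Agent.Lib.Helper11.SC3B.B09a

/-!
# S1904 farm, PART PC1b sub-farm (co-architect helper11) — glue G09 (sorry-free modulo the leaves)
-/

set_option autoImplicit false

open Cfsg.Agent.Lib.Helper12.SC3
open scoped commutatorElement

namespace Cfsg.Agent.Lib.Helper11.SC3B

variable {X : Type*} [Group X] {A : Subgroup (MulAut X)}

theorem comm_mem_commutator (x y : X) : x * y * x⁻¹ * y⁻¹ ∈ commutator X := by
  have h : ⁅x, y⁆ ∈ commutator X :=
    Subgroup.commutator_mem_commutator (Subgroup.mem_top x) (Subgroup.mem_top y)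
  rwa [commutatorElement_def] at h

/-- Blueprint (1.4): `X' = R` -/
theorem Ctx.commutator_eq_R [Finite X] (c : Ctx A) : commutator X = Om1Z X := by
  rcases c.fixR_or_noFixR with hF | hT
  · have hfix := fix_center_of_fixR c.hyp hF
    apply le_antisymm c.commutator_le_R
    intro r hr
    have hrZ : r ∈ Subgroup.center X := hr.1
    refine mem_of_fixed_coset c.hyp (commutator X) inferInstance comm_mem_commutator ?_
    intro φ hφ
    rw [hfix φ hφ r hrZ, inv_mul_cancel]
    exact Subgroup.one_mem _
  · exact c.eq_R_of_inv hT (commutator X) c.commutator_le_R (inv_commutator A) c.commutator_ne_bot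

end Cfsg.Agent.Lib.Helper11.SC3B
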