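import Cfsg.Agent.Lib.Helper11.SC3B.B11b

/-!
# S1904 farm, PART PC1b sub-farm (co-architect helper11) — glue G11 (sorry-free modulo the leaves)
-/

set_option autoImplicit false

open Cfsg.Agent.Lib.Helper12.SC3
open scoped commutatorElement

namespace Cfsg.Agent.Lib.Helper11.SC3B

variable {X : Type*} [Group X] {A : Subgroup (MulAut X)}

/-- Blueprint (1.4)(ii): `Z = R`, i.e. the centre has exponent 2 -/
theorem Ctx.center_sq [Finite X] (c : Ctx A) : ∀ z ∈ Subgroup.center X, z ^ 2 = 1 := by
  intro z hz
  by_contra hz2
  rcases c.fixR_or_noFixR with hF | hT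
  · have hfix := fix_center_of_fixR c.hyp hF
    have hzc : z ∈ commutator X := by
      refine mem_of_fixed_coset c.hyp (commutator X) inferInstance comm_mem_commutator ?_
      intro φ hφ
      rw [hfix φ hφ z hz, inv_mul_cancel]
      exact Subgroup.one_mem _
    exact hz2 (c.commutator_le_R hzc).2
  · have hR := c.R_le_sq hT hz hz2
    have h4 := c.index_le_four hR
    have h2 := c.card_commutator_le_two h4
    rw [c.commutator_eq_R, c.card_R] at h2
    omega

end Cfsg.Agent.Lib.Helper11.SC3B
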