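import Cfsg.Agent.Lib.Helper11.SC3B.B13b

/-!
# S1904 farm, PART PC1b sub-farm (co-architect helper11) — glue G13 (sorry-free modulo the leaves)
-/

set_option autoImplicit false

open Cfsg.Agent.Lib.Helper12.SC3
open scoped commutatorElement

namespace Cfsg.Agent.Lib.Helper11.SC3B

variable {X : Type*} [Group X] {A : Subgroup (MulAut X)}

/-- Blueprint (1.4)(iv): `|X : Z| ≠ 8` -/
theorem Ctx.index_ne_eight [Finite X] (c : Ctx A) (hZ : ∀ z ∈ Subgroup.center X, z ^ 2 = 1) :
    (Subgroup.center X).index ≠ 8 := by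
  intro h8
  obtain ⟨a, -, ha, htr⟩ := c.exists_transitive hZ h8
  exact c.false_of_transitive hZ h8 a ha htr

end Cfsg.Agent.Lib.Helper11.SC3B
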