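import Cfsg.Agent.Lib.Helper11.SC3B.B14c

/-!
# S1904 farm, PART PC1b sub-farm (co-architect helper11) — glue Main (sorry-free modulo the leaves)
-/

set_option autoImplicit false

open Cfsg.Agent.Lib.Helper12.SC3
open scoped commutatorElement

namespace Cfsg.Agent.Lib.Helper11.SC3B

variable {X : Type*} [Group X] {A : Subgroup (MulAut X)}

/-- **PART PC1b of S1904** (statement of `Cfsg.Agent.Lib.Helper12.SC3.noncyclic_center`) -/
theorem noncyclic_center_main [Finite X] {A : Subgroup (MulAut X)} (h : Hyp A) (hna : ¬ IsMulCommutative X)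
    (hc : AllCentral A) (hncyc : ¬ IsCyclic (Subgroup.center X)) : ConclB X := by
  have c : Ctx A := Ctx.of_classTwo h hna hc hncyc
  have hZ := c.center_sq
  have hcomm := c.commutator_eq_R
  obtain ⟨k, hk⟩ := c.index_eq_pow
  have h4 := c.four_le_index
  have h16 := c.index_le_sixteen hZ
  have hne8 := c.index_ne_eight hZ
  have hne4 : (Subgroup.center X).index ≠ 4 := by
    intro h
    have h2 := c.card_commutator_le_two (le_of_eq h)
    rw [hcomm, c.card_R] at h2
    omega
  have hidx : (Subgroup.center X).index = 16 := by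
    rw [hk] at h4 h16 hne8 hne4 ⊢
    have hk4 : k ≤ 4 := by
      by_contra hcon
      push Not at hcon
      have : 2 ^ 5 ≤ 2 ^ k := Nat.pow_le_pow_right (by norm_num) hcon
      omega
    interval_cases k <;> simp_all
  refine ⟨c.isSpecial hZ hcomm, ?_, c.card_involutions, c.invol_central⟩
  rw [← Subgroup.card_mul_index (Subgroup.center X), c.card_center hZ, hidx]

end Cfsg.Agent.Lib.Helper11.SC3B
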